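import Cfsg.Agent.H201.Fi.Count
import Cfsg.Agent.Schreier.FiTwentyFour

/-!
# The weights of the 24 commuting transpositions of `Fi24`
-/

set_option autoImplicit false

namespace Cfsg.Agent.H201.Fi

open Cfsg Cfsg.Agent.Schreier.FiTwentyFour Cfsg.Agent.H852.GolayMod

theorem oct0_prod : (oct0.map d).prod = 1 := by rw [← word_WO, WO_eq_one]

theorem oct0_code : ind oct0.toFinset ∈ golayCode := by
  have h : ind oct0.toFinset = Cfsg.Agent.Golay.Core.word 8536111 := by
    funext p; revert p; decide +kernel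
  rw [h, Cfsg.Agent.Golay.Core.word_mem_golayCode_iff (show 8536111 < 2 ^ 24 by norm_num)]
  decide +kernel

theorem exists_conj24 : ∀ σ ∈ M24, ∃ n : Cfsg.Spor.Fi24, ∀ p, n * d p * n⁻¹ = d (σ p) := by
  intro σ hσ
  obtain ⟨n, -, hn⟩ := le_Phi hσ
  exact ⟨n, fun p => conj_d (hn p)⟩

/-- the values of a character of `Fi24` on products of commuting transpositions -/
theorem weights24 {χ : Cfsg.Spor.Fi24 → ℂ} (hχ : IsCharacter Cfsg.Spor.Fi24 χ) :
    ∃ a0 a1 b0 b1 c : ℕ, χ 1 = a0 + a1 + 759 * (b0 + b1) + 2576 * c ∧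
      χ (d none) = a0 - a1 + 253 * (b0 - b1) ∧
      χ (d none * d (some 0)) = a0 + a1 + 55 * (b0 + b1) - 112 * c ∧
      χ (d none * (d (some 0) * d (some 1))) = a0 - a1 - 3 * (b0 - b1) ∧
      χ (d none * (d (some 0) * (d (some 1) * d (some 2)))) = a0 + a1 - 9 * (b0 + b1) + 16 * c :=
  exists_vals hχ d_sq d_comm exists_conj24 ⟨oct0, oct0_code, rfl, by decide, oct0_prod⟩

end Cfsg.Agent.H201.Fi
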