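import Cfsg.Agent.H201.Fi.Gns
import Cfsg.Agent.TSp.UCount

/-!
# The level inequalities for the types `Fi24`, `Fi23`, `Fi22`

`X g = χ g + ε χ (z g)`, `M = X 1`, `x = X f`, `c = X (f g)` (`f`, `g` commuting members of `E`):

* `level8` : `392 x² ≤ M (M + 391 c)` for `E` of type `T8`;
* `level7` : `391 x² ≤ M (M + 390 c)` for `E` of type `T7`;
* `level6` : `78 x² ≤ M (M + 77 c)` for `E` of type `T6`;
* `lv1`, `lv2` : the levels 1 and 2 for `E` of type `T8`; `lv7` : the level 1 for `E` of type `T7`.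
-/

set_option autoImplicit false

namespace Cfsg.Agent.H201.Fi

open Cfsg Cfsg.Agent.Fischer480.Defs

universe u

variable {G : Type u} [Group G] [Finite G] {χ : G → ℂ} {E : Set G}

theorem nonempty_of_ncard {α : Type*} {s : Set α} {n : ℕ} (h : s.ncard = n) (hn : n ≠ 0) : s.Nonempty := by
  rw [Set.nonempty_iff_ne_empty]
  rintro rfl
  rw [Set.ncard_empty] at h
  exact hn h.symm

theorem level6 (hχ : IsIrrCharacter G χ) (hT : IsT6 E) (hsq : ∀ f ∈ E, f * f = 1) {z : G} (hz : z * z = 1)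
    (hzE : ∀ f ∈ E, Commute z f) {ε : ℝ} (hε : ε * ε = 1) {M x c : ℝ}
    (hM : χ 1 + ε * χ z = M) (hx : ∀ f ∈ E, χ f + ε * χ (z * f) = x)
    (hc : ∀ f ∈ E, ∀ g ∈ E, f ≠ g → Commute f g → χ (f * g) + ε * χ (z * (f * g)) = c) :
    78 * x ^ 2 ≤ (M + 77 * c) * M := by
  obtain ⟨h1, h2, h3⟩ := hT
  have h := level (θ := 72) (r := 9) (k := 693) (l := 180) (m := 126) hχ (nonempty_of_ncard h1 (by norm_num)) hsq hz hzE
    hε (fun f hf => (Cfsg.Agent.TSp.UCount.numbers_six (h2 f hf)).1)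
    (fun f hf => (Cfsg.Agent.TSp.UCount.numbers_six (h2 f hf)).2.1) h3 (by norm_num) (by norm_num) (by norm_num)
    (by norm_num) hM hx hc
  push_cast at h
  nlinarith

theorem level7 (hχ : IsIrrCharacter G χ) (hT : IsT7 E) (hsq : ∀ f ∈ E, f * f = 1) {z : G} (hz : z * z = 1)
    (hzE : ∀ f ∈ E, Commute z f) {ε : ℝ} (hε : ε * ε = 1) {M x c : ℝ}
    (hM : χ 1 + ε * χ z = M) (hx : ∀ f ∈ E, χ f + ε * χ (z * f) = x)
    (hc : ∀ f ∈ E, ∀ g ∈ E, f ≠ g → Commute f g → χ (f * g) + ε * χ (z * (f * g)) = c) :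
    391 * x ^ 2 ≤ (M + 390 * c) * M := by
  obtain ⟨h1, h2, h3⟩ := hT
  have h := level (θ := 360) (r := 9) (k := 3510) (l := 693) (m := 351) hχ (nonempty_of_ncard h1 (by norm_num)) hsq hz
    hzE hε (fun f hf => (h2 f hf).1)
    (fun f hf g hg => (Cfsg.Agent.TSp.UCount.numbers_six ((h2 f hf).2.1 g hg)).1) h3 (by norm_num) (by norm_num)
    (by norm_num) (by norm_num) hM hx hc
  push_cast at h
  nlinarith

theorem level8 (hχ : IsIrrCharacter G χ) (hT : IsT8 E) (hsq : ∀ f ∈ E, f * f = 1) {z : G} (hz : z * z = 1)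
    (hzE : ∀ f ∈ E, Commute z f) {ε : ℝ} (hε : ε * ε = 1) {M x c : ℝ}
    (hM : χ 1 + ε * χ z = M) (hx : ∀ f ∈ E, χ f + ε * χ (z * f) = x)
    (hc : ∀ f ∈ E, ∀ g ∈ E, f ≠ g → Commute f g → χ (f * g) + ε * χ (z * (f * g)) = c) :
    392 * x ^ 2 ≤ (M + 391 * c) * M := by
  obtain ⟨h1, h2, h3⟩ := hT
  have h := level (θ := 432) (r := 81) (k := 31671) (l := 3510) (m := 3240) hχ (nonempty_of_ncard h1 (by norm_num)) hsq
    hz hzE hε (fun f hf => (h2 f hf).1) (fun f hf g hg => ((h2 f hf).2.1 g hg).1) h3 (by norm_num) (by norm_num)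
    (by norm_num) (by norm_num) hM hx hc
  push_cast at h
  nlinarith

/-- the values of `χ` on products of up to four commuting members of `E` -/
structure Vals4 (χ : G → ℂ) (E : Set G) (n u B X3 X4 : ℝ) : Prop where
  one : χ 1 = n
  val1 : ∀ d ∈ E, χ d = u
  val2 : ∀ d ∈ E, ∀ e ∈ Loc E d, χ (d * e) = B
  val3 : ∀ d ∈ E, ∀ e ∈ Loc E d, ∀ f ∈ Loc (Loc E d) e, χ (d * (e * f)) = X3
  val4 : ∀ d ∈ E, ∀ e ∈ Loc E d, ∀ f ∈ Loc (Loc E d) e, ∀ g ∈ Loc (Loc (Loc E d) e) f, χ (d * (e * (f * g))) = X4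

variable {n u B X3 X4 : ℝ}

theorem loc_mem {E : Set G} {d e : G} (hd : d ∈ E) (he : e ∈ Loc E d) : d ∈ Loc E e :=
  ⟨hd, he.2.1.symm, he.2.2.symm⟩

/-- level 1 -/
theorem Vals4.lv1 (hχ : IsIrrCharacter G χ) (hT : IsT8 E) (hsq : ∀ f ∈ E, f * f = 1) (V : Vals4 χ E n u B X3 X4)
    {ε : ℝ} (hε : ε * ε = 1) :
    391 * (u + ε * B) ^ 2 ≤ (n + ε * u + 390 * (B + ε * X3)) * (n + ε * u) := by
  obtain ⟨d, hd⟩ := nonempty_of_ncard hT.1 (by norm_num)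
  refine level7 (E := Loc E d) (z := d) hχ (hT.2.1 d hd) (fun f hf => hsq f hf.1) (hsq d hd) (fun f hf => hf.2.2) hε
    ?_ ?_ ?_
  · rw [V.one, V.val1 d hd]; push_cast; ring
  · intro f hf
    rw [V.val1 f hf.1, V.val2 d hd f hf]; push_cast; ring
  · intro f hf g hg hfg hc
    have hg' : g ∈ Loc (Loc E d) f := ⟨hg, hfg.symm, hc⟩
    rw [V.val2 f hf.1 g ⟨hg.1, hfg.symm, hc⟩, V.val3 d hd f hf g hg']
    push_cast; ring

/-- level 2 -/
theorem Vals4.lv2 (hχ : IsIrrCharacter G χ) (hT : IsT8 E) (hsq : ∀ f ∈ E, f * f = 1) (V : Vals4 χ E n u B X3 X4)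
    {ε : ℝ} (hε : ε * ε = 1) :
    78 * (u + ε * X3) ^ 2 ≤ (n + ε * B + 77 * (B + ε * X4)) * (n + ε * B) := by
  obtain ⟨d, hd⟩ := nonempty_of_ncard hT.1 (by norm_num)
  obtain ⟨e, he⟩ := nonempty_of_ncard (hT.2.1 d hd).1 (by norm_num)
  have hde : Commute d e := he.2.2
  refine level6 (E := Loc (Loc E d) e) (z := d * e) hχ ((hT.2.1 d hd).2.1 e he) (fun f hf => hsq f hf.1.1) ?_
    (fun f hf => (hf.1.2.2.mul_left hf.2.2)) hε ?_ ?_ ?_
  · calc d * e * (d * e) = d * (e * d) * e := by group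
      _ = d * (d * e) * e := by rw [hde.eq]
      _ = (d * d) * (e * e) := by group
      _ = 1 := by rw [hsq d hd, hsq e he.1, one_mul]
  · rw [V.one, V.val2 d hd e he]; push_cast; ring
  · intro f hf
    rw [V.val1 f hf.1.1, mul_assoc, V.val3 d hd e he f hf]; push_cast; ring
  · intro f hf g hg hfg hc
    have hg' : g ∈ Loc (Loc (Loc E d) e) f := ⟨hg, hfg.symm, hc⟩
    rw [V.val2 f hf.1.1 g ⟨hg.1.1, hfg.symm, hc⟩, mul_assoc, V.val4 d hd e he f hf g hg']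
    push_cast; ring

/-- level 1 for the type `T7` -/
theorem Vals4.lv7 (hχ : IsIrrCharacter G χ) (hT : IsT7 E) (hsq : ∀ f ∈ E, f * f = 1) (V : Vals4 χ E n u B X3 X4)
    {ε : ℝ} (hε : ε * ε = 1) :
    78 * (u + ε * B) ^ 2 ≤ (n + ε * u + 77 * (B + ε * X3)) * (n + ε * u) := by
  obtain ⟨d, hd⟩ := nonempty_of_ncard hT.1 (by norm_num)
  refine level6 (E := Loc E d) (z := d) hχ (hT.2.1 d hd) (fun f hf => hsq f hf.1) (hsq d hd) (fun f hf => hf.2.2) hε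
    ?_ ?_ ?_
  · rw [V.one, V.val1 d hd]; push_cast; ring
  · intro f hf
    rw [V.val1 f hf.1, V.val2 d hd f hf]; push_cast; ring
  · intro f hf g hg hfg hc
    have hg' : g ∈ Loc (Loc E d) f := ⟨hg, hfg.symm, hc⟩
    rw [V.val2 f hf.1 g ⟨hg.1, hfg.symm, hc⟩, V.val3 d hd f hf g hg']
    push_cast; ring

end Cfsg.Agent.H201.Fi
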