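import Cfsg.Agent.H201.Fi.Arith

/-!
# The final enumerations for the degrees of `Fi24'` modulo 29, with the residues modulo 11 and 13

* `arithS2` : characters of `Fi24'` which do not extend to `Fi24`;
* `arithE2` : characters which extend.
-/

set_option autoImplicit false
set_option maxRecDepth 100000

namespace Cfsg.Agent.H201.Fi

/-- the possible residues modulo 11 -/
def R11 (n B : ℤ) : Prop :=
  (11 ∣ n ∧ 11 ∣ B) ∨ (11 ∣ n - B ∧ (n % 11 = 1 ∨ n % 11 = 2 ∨ n % 11 = 9 ∨ n % 11 = 10)) ∨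
    (n % 11 = 3 ∧ B % 11 = 10) ∨ (n % 11 = 8 ∧ B % 11 = 1)

/-- the possible residues modulo 13 -/
def R13 (n B : ℤ) : Prop :=
  13 ∣ B ∨ ((13 ∣ B - n ∨ 13 ∣ B + n) ∧
    (n % 13 = 1 ∨ n % 13 = 2 ∨ n % 13 = 6 ∨ n % 13 = 7 ∨ n % 13 = 11 ∨ n % 13 = 12))

instance (n B : ℤ) : Decidable (R11 n B) := by unfold R11; infer_instance
instance (n B : ℤ) : Decidable (R13 n B) := by unfold R13; infer_instance

/-! ### Characters which do not extend -/

/-- the check for `n = 391 k` and the value `γ = i - k` -/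
def chkS2 (k : ℕ) : Bool :=
  !okS (391 * k) || (List.range (2 * k + 1)).all fun i =>
    let γ : ℤ := (i : ℤ) - k
    let r : ℤ := -(k : ℤ) - 704 * γ
    !(r % 81 == 0) || !(decide (0 ≤ 391 * (k : ℤ) + 351 * (r / 81) - 352 * γ)) ||
      !(decide (0 ≤ 391 * (k : ℤ) - 81 * (r / 81) + 80 * γ)) || !(decide (3 ∣ 391 * (k : ℤ) - γ)) ||
      !(decide (R11 (391 * (k : ℤ)) (r / 81))) || !(decide (R13 (391 * (k : ℤ)) (r / 81)))

theorem chkS2_all : (List.range 320).all (fun k => k == 0 || k == 176 || chkS2 k) = true := by decide +kernel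

theorem arithS2 {n : ℕ} {b c : ℤ} (hn : n ∣ 1255205709190661721292800)
    (h29 : n % 29 = 1 ∨ n % 29 = 28 ∨ n % 29 = 14 ∨ n % 29 = 15)
    (hR : (n : ℤ) + 31671 * b + 275264 * c = 0) (p1 : 0 ≤ (n : ℤ) + 351 * b - 352 * c)
    (p2 : 0 ≤ (n : ℤ) - 81 * b + 80 * c) (h3 : (3 : ℤ) ∣ (n : ℤ) - c) (r11 : R11 n b) (r13 : R13 n b) :
    n = 68816 ∨ 125120 ≤ n := by
  by_contra H
  rw [not_or, not_le] at H
  obtain ⟨ha, hc⟩ := H
  obtain ⟨k, hk⟩ : ∃ k : ℕ, n = 391 * k := by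
    have : (391 : ℤ) ∣ (n : ℤ) := ⟨-(81 * b + 704 * c), by linarith⟩
    exact_mod_cast this
  subst hk
  have hk : k < 320 := by omega
  have hk0 : k ≠ 0 := by rintro rfl; simp at h29
  have h4 := List.all_eq_true.1 chkS2_all k (List.mem_range.2 hk)
  have e1 : (k == 0) = false := by simpa using hk0
  have e2 : (k == 176) = false := by rw [beq_eq_false_iff_ne]; rintro rfl; exact ha (by norm_num)
  rw [e1, e2, Bool.false_or, Bool.false_or, chkS2] at h4
  have hok : okS (391 * k) = true := by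
    rw [okS, Bool.and_eq_true]
    refine ⟨?_, ?_⟩
    · rw [beq_iff_eq]; exact Nat.mod_eq_zero_of_dvd hn
    · rcases h29 with h | h | h | h <;> simp [h]
  rw [hok, Bool.not_true, Bool.false_or] at h4
  push_cast at hR p1 p2 h3 r11 r13
  have hkk : (k : ℤ) + 81 * b + 704 * c = 0 := by linarith
  have g1 : -(k : ℤ) ≤ c := by omega
  have g2 : c ≤ k := by omega
  have hi : (c + k).toNat < 2 * k + 1 := by omega
  have h5 := List.all_eq_true.1 h4 _ (List.mem_range.2 hi)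
  have e4 : (((c + k).toNat : ℕ) : ℤ) - k = c := by omega
  simp only [e4] at h5
  have e5 : -(k : ℤ) - 704 * c = 81 * b := by linarith
  rw [e5] at h5
  have e6 : 81 * b / 81 = b := by omega
  have e7 : (81 * b % 81 == 0) = true := by rw [beq_iff_eq]; omega
  rw [e6, e7, decide_eq_true p1, decide_eq_true p2, decide_eq_true h3, decide_eq_true r11, decide_eq_true r13] at h5
  simp at h5

/-! ### Characters which extend -/

/-- the check for `|u| = v` -/
def chkV (n v : ℕ) : Bool :=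
  let s : ℤ := ((306936 * v ^ 2 / n : ℕ) : ℤ) - n
  !(s % 391 == 0) ||
    let k : ℤ := s / 391
    let t₀ : ℤ := (-(n : ℤ) - 113 * k) / 704
    (List.range (2 * n / 704 + 2)).all fun i =>
      let t : ℤ := t₀ + i
      let B : ℤ := 113 * k + 704 * t
      let C : ℤ := -13 * k - 81 * t
      !(decide (0 ≤ (n : ℤ) + 351 * B - 352 * C)) || !(decide (0 ≤ (n : ℤ) - 81 * B + 80 * C)) ||
        !(decide ((3 : ℤ) ∣ (n : ℤ) - C)) || decide (B = n) || !(decide (B ≤ n)) || !(decide (R11 n B)) ||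
        !(decide (R13 n B)) || !(decide ((n : ℤ) ∣ 9720970056 * B))

/-- the check -/
def chkE2 (n : ℕ) : Bool :=
  let q := n / Nat.gcd n 306936
  (List.range (n / q + 1)).all fun j => chkV n (q * j)

theorem chkE2_all : cands.all chkE2 = true := by decide +kernel

theorem chkV_false {n v : ℕ} {B C : ℤ} (hn : 0 < n)
    (hR : (n : ℤ) * (n + 31671 * B + 275264 * C) = 306936 * (v : ℤ) ^ 2)
    (p1 : 0 ≤ (n : ℤ) + 351 * B - 352 * C) (p2 : 0 ≤ (n : ℤ) - 81 * B + 80 * C) (h3 : (3 : ℤ) ∣ (n : ℤ) - C)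
    (hB : (n : ℤ) ∣ 9720970056 * B) (b1 : |B| ≤ n) (ne : B ≠ n) (r11 : R11 n B) (r13 : R13 n B) :
    chkV n v = false := by
  have hd : n ∣ 306936 * v ^ 2 := by
    have : (n : ℤ) ∣ ((306936 * v ^ 2 : ℕ) : ℤ) := ⟨_, by push_cast; rw [← hR]⟩
    exact_mod_cast this
  obtain ⟨w, hw⟩ := hd
  have e1 : 306936 * v ^ 2 / n = w := by rw [hw]; exact Nat.mul_div_cancel_left _ hn
  have e3 : (n : ℤ) + 31671 * B + 275264 * C = w := by
    have h1 : ((306936 * v ^ 2 : ℕ) : ℤ) = n * w := by exact_mod_cast hw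
    push_cast at h1
    rw [h1] at hR
    exact mul_left_cancel₀ (by exact_mod_cast hn.ne') hR
  have e4 : (w : ℤ) - n = 391 * (81 * B + 704 * C) := by linarith
  obtain ⟨b2, b3⟩ := abs_le.1 b1
  unfold chkV
  simp only [e1, e4]
  have e5 : 391 * (81 * B + 704 * C) / 391 = 81 * B + 704 * C := by omega
  have e6 : (391 * (81 * B + 704 * C) % 391 == 0) = true := by rw [beq_iff_eq]; omega
  rw [e5, e6, Bool.not_true, Bool.false_or]
  set k : ℤ := 81 * B + 704 * C with hk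
  -- the parameter
  set t : ℤ := -(13 * B + 113 * C) with ht
  have f1 : 113 * k + 704 * t = B := by rw [hk, ht]; ring
  have f2 : -13 * k - 81 * t = C := by rw [hk, ht]; ring
  have f3 : (-(n : ℤ) - 113 * k) / 704 ≤ t := by omega
  have f4 : t - (-(n : ℤ) - 113 * k) / 704 < 2 * n / 704 + 2 := by omega
  obtain ⟨i, hi⟩ : ∃ i : ℕ, t = (-(n : ℤ) - 113 * k) / 704 + i := ⟨(t - (-(n : ℤ) - 113 * k) / 704).toNat, by omega⟩
  rw [List.all_eq_false]
  refine ⟨i, List.mem_range.2 (by omega), ?_⟩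
  rw [← hi, f1, f2, decide_eq_true p1, decide_eq_true p2, decide_eq_true h3, decide_eq_false ne, decide_eq_true b3,
    decide_eq_true r11, decide_eq_true r13, decide_eq_true hB]
  simp

theorem arithE2 {n : ℕ} {u B C : ℤ} (hn : n ∣ 1255205709190661721292800)
    (h29 : n % 29 = 1 ∨ n % 29 = 28)
    (h23 : n % 23 = 0 ∨ n % 23 = 1 ∨ n % 23 = 22 ∨ n % 23 = 11 ∨ n % 23 = 12)
    (h17 : n % 17 = 0 ∨ n % 17 = 1 ∨ n % 17 = 16)
    (hR : (n : ℤ) * (n + 31671 * B + 275264 * C) = 306936 * u ^ 2)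
    (p1 : 0 ≤ (n : ℤ) + 351 * B - 352 * C) (p2 : 0 ≤ (n : ℤ) - 81 * B + 80 * C)
    (hu : (n : ℤ) ∣ 306936 * u) (hB : (n : ℤ) ∣ 9720970056 * B) (h3 : (3 : ℤ) ∣ (n : ℤ) - C)
    (b1 : |B| ≤ n) (u1 : |u| ≤ n) (ne : B ≠ n) (r11 : R11 n B) (r13 : R13 n B) : 57477 ≤ n := by
  by_contra hlt
  rw [not_le] at hlt
  have hpos : 0 < n := Nat.pos_of_ne_zero (by rintro rfl; simp at h29)
  have hok : okE n = true := by
    rw [okE, Bool.and_eq_true, Bool.and_eq_true]
    refine ⟨?_, ?_, ?_⟩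
    · rw [beq_iff_eq]; exact Nat.mod_eq_zero_of_dvd hn
    · rcases h23 with h | h | h | h | h <;> simp [h]
    · rcases h17 with h | h | h <;> simp [h]
  have h4 := List.all_eq_true.1 chkE2_all n (mem_cands hok h29 hlt)
  have hqd : n / Nat.gcd n 306936 ∣ u.natAbs := by
    have h5 : n ∣ 306936 * u.natAbs := by
      have := Int.natAbs_dvd_natAbs.2 hu
      rwa [Int.natAbs_mul, Int.natAbs_natCast] at this
    have hg : 0 < Nat.gcd n 306936 := Nat.gcd_pos_of_pos_left _ hpos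
    have h6 : Nat.Coprime (n / Nat.gcd n 306936) (306936 / Nat.gcd n 306936) := Nat.coprime_div_gcd_div_gcd hg
    apply h6.dvd_of_dvd_mul_left
    obtain ⟨g1, hg1⟩ := Nat.gcd_dvd_left n 306936
    obtain ⟨g2, hg2⟩ := Nat.gcd_dvd_right n 306936
    set g := Nat.gcd n 306936 with hgdef
    have e5 : n / g = g1 := by rw [hg1]; exact Nat.mul_div_cancel_left _ hg
    have e6 : 306936 / g = g2 := by rw [hg2]; exact Nat.mul_div_cancel_left _ hg
    rw [e5, e6]
    rw [hg1, hg2, mul_assoc] at h5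
    exact Nat.dvd_of_mul_dvd_mul_left hg h5
  obtain ⟨j, hj⟩ := hqd
  unfold chkE2 at h4
  set q := n / Nat.gcd n 306936 with hq
  have hq0 : 0 < q := Nat.div_pos (Nat.le_of_dvd hpos (Nat.gcd_dvd_left _ _)) (Nat.gcd_pos_of_pos_left _ hpos)
  have hu' : q * j ≤ n := by
    rw [← hj]
    have : ((u.natAbs : ℕ) : ℤ) ≤ (n : ℤ) := by rw [Int.natCast_natAbs]; exact u1
    exact_mod_cast this
  have hj' : j < n / q + 1 := by
    rw [Nat.lt_succ_iff, Nat.le_div_iff_mul_le hq0, mul_comm]; exact hu'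
  have h5 := List.all_eq_true.1 h4 j (List.mem_range.2 hj')
  rw [chkV_false hpos (B := B) (C := C) (by rw [hR, ← hj, Int.natCast_natAbs, sq_abs]) p1 p2 h3 hB b1 ne r11 r13] at h5
  exact absurd h5 (by decide)

end Cfsg.Agent.H201.Fi
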