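import Mathlib

/-!
# The final enumerations for the degrees of `Fi24'` modulo 29

* `arithS` : characters of `Fi24'` which do not extend to `Fi24`;
* `arithE` : characters which extend.
-/

set_option autoImplicit false
set_option maxRecDepth 100000

namespace Cfsg.Agent.H201.Fi

/-! ### Characters which do not extend -/

/-- degree conditions -/
def okS (n : ℕ) : Bool :=
  1255205709190661721292800 % n == 0 && (n % 29 == 1 || n % 29 == 28 || n % 29 == 14 || n % 29 == 15)

/-- for given `n`, `β` no multiplicities -/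
def noS (n β : ℤ) (M : ℕ) : Bool :=
  (List.range (M + 1)).all fun m =>
    let r := n - β - 1344 * m
    !(decide (0 ≤ r)) || !(r % 704 == 0) || !(decide (7 * (m : ℤ) ≤ 11 * (r / 704))) ||
      !(decide (0 ≤ n - 759 * (r / 704) - 1288 * m))

/-- the check for `n = 391 k` and the value `γ = i - k` -/
def chkS (k : ℕ) : Bool :=
  !okS (391 * k) || (List.range (2 * k + 1)).all fun i =>
    let γ : ℤ := (i : ℤ) - k
    let r : ℤ := -(k : ℤ) - 704 * γ
    !(r % 81 == 0) || !(decide (0 ≤ 391 * (k : ℤ) + 351 * (r / 81) - 352 * γ)) ||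
      !(decide (0 ≤ 391 * (k : ℤ) - 81 * (r / 81) + 80 * γ)) || noS (391 * k) (r / 81) (391 * k / 1288)

theorem chkS_all : (List.range 320).all (fun k => k == 0 || k == 176 || k == 288 || chkS k) = true := by decide +kernel

theorem arithS {n : ℕ} {β γ : ℤ} {w s m : ℕ} (hn : n ∣ 1255205709190661721292800)
    (h29 : n % 29 = 1 ∨ n % 29 = 28 ∨ n % 29 = 14 ∨ n % 29 = 15)
    (h1 : (n : ℤ) = w + 759 * s + 1288 * m) (h2 : β = w + 55 * s - 56 * m)
    (hR : (n : ℤ) + 31671 * β + 275264 * γ = 0) (p1 : 0 ≤ (n : ℤ) + 351 * β - 352 * γ)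
    (p2 : 0 ≤ (n : ℤ) - 81 * β + 80 * γ) (hL : 7 * m ≤ 11 * s) :
    n = 68816 ∨ n = 112608 ∨ 125120 ≤ n := by
  by_contra H
  rw [not_or, not_or, not_le] at H
  obtain ⟨ha, hb, hc⟩ := H
  obtain ⟨k, hk⟩ : ∃ k : ℕ, n = 391 * k := by
    have : (391 : ℤ) ∣ (n : ℤ) := ⟨-(81 * β + 704 * γ), by linarith⟩
    exact_mod_cast this
  subst hk
  have hk : k < 320 := by omega
  have hk0 : k ≠ 0 := by rintro rfl; simp at h29
  have h3 := List.all_eq_true.1 chkS_all k (List.mem_range.2 hk)
  have e1 : (k == 0) = false := by simpa using hk0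
  have e2 : (k == 176) = false := by rw [beq_eq_false_iff_ne]; rintro rfl; exact ha (by norm_num)
  have e3 : (k == 288) = false := by rw [beq_eq_false_iff_ne]; rintro rfl; exact hb (by norm_num)
  rw [e1, e2, e3, Bool.false_or, Bool.false_or, Bool.false_or, chkS] at h3
  have hok : okS (391 * k) = true := by
    rw [okS, Bool.and_eq_true]
    refine ⟨?_, ?_⟩
    · rw [beq_iff_eq]; exact Nat.mod_eq_zero_of_dvd hn
    · rcases h29 with h | h | h | h <;> simp [h]
  rw [hok, Bool.not_true, Bool.false_or] at h3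
  push_cast at h1 hR p1 p2
  have hkk : (k : ℤ) + 81 * β + 704 * γ = 0 := by linarith
  have g1 : -(k : ℤ) ≤ γ := by omega
  have g2 : γ ≤ k := by omega
  have hi : (γ + k).toNat < 2 * k + 1 := by omega
  have h4 := List.all_eq_true.1 h3 _ (List.mem_range.2 hi)
  have e4 : (((γ + k).toNat : ℕ) : ℤ) - k = γ := by omega
  simp only [e4] at h4
  have e5 : -(k : ℤ) - 704 * γ = 81 * β := by linarith
  rw [e5] at h4
  have e6 : 81 * β / 81 = β := by omega
  have e7 : (81 * β % 81 == 0) = true := by rw [beq_iff_eq]; omega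
  rw [e6, e7, decide_eq_true p1, decide_eq_true p2, Bool.not_true, Bool.false_or, Bool.false_or,
    Bool.false_or, noS] at h4
  have hm : m < 391 * k / 1288 + 1 := by omega
  have h5 := List.all_eq_true.1 h4 m (List.mem_range.2 hm)
  have e8 : 391 * (k : ℤ) - β - 1344 * m = 704 * s := by linarith
  push_cast at h5
  simp only [e8] at h5
  have e9 : 704 * (s : ℤ) / 704 = s := by omega
  have e10 : (704 * (s : ℤ) % 704 == 0) = true := by rw [beq_iff_eq]; omega
  have e11 : decide (0 ≤ 704 * (s : ℤ)) = true := decide_eq_true (by omega)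
  have e12 : decide (7 * (m : ℤ) ≤ 11 * (s : ℤ)) = true := decide_eq_true (by exact_mod_cast hL)
  have e13 : decide (0 ≤ 391 * (k : ℤ) - 759 * s - 1288 * m) = true := decide_eq_true (by omega)
  rw [e9, e10, e11, e12, e13] at h5
  simp at h5

/-! ### Characters which extend -/

/-- degree conditions -/
def okE (n : ℕ) : Bool :=
  1255205709190661721292800 % n == 0 && ((n % 23 == 0 || n % 23 == 1 || n % 23 == 22 || n % 23 == 11 || n % 23 == 12) &&
    (n % 17 == 0 || n % 17 == 1 || n % 17 == 16))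

/-- the candidates -/
def cands : List ℕ := [1, 782, 2058, 3450, 7889, 10557, 11340, 16065, 16848, 17952, 21896, 23460, 37179, 43470, 55913]

theorem cands_all : (List.range 1982).all (fun k => (!okE (29 * k + 1) || cands.contains (29 * k + 1)) &&
    (!okE (29 * k + 28) || k == 1981 || cands.contains (29 * k + 28))) = true := by decide +kernel

theorem mem_cands {n : ℕ} (h : okE n = true) (h29 : n % 29 = 1 ∨ n % 29 = 28) (hn : n < 57477) : n ∈ cands := by
  have hk : n / 29 < 1982 := by omega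
  have h1 := List.all_eq_true.1 cands_all (n / 29) (List.mem_range.2 hk)
  rw [Bool.and_eq_true] at h1
  rcases h29 with h2 | h2
  · have e : 29 * (n / 29) + 1 = n := by omega
    rw [e, h, Bool.not_true, Bool.false_or, List.contains_iff_mem] at h1
    exact h1.1
  · have e : 29 * (n / 29) + 28 = n := by omega
    have e2 : (n / 29 == 1981) = false := by rw [beq_eq_false_iff_ne]; omega
    rw [e, e2, h, Bool.not_true, Bool.false_or, Bool.false_or, List.contains_iff_mem] at h1
    exact h1.2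

/-- the condition on `|u|` and `B` -/
def chkU (n : ℕ) (B : ℤ) (v : ℕ) : Bool :=
  !(306936 * v ^ 2 % n == 0) ||
    let S : ℤ := ((306936 * v ^ 2 / n : ℕ) : ℤ) - n - 31671 * B
    !(S % 275264 == 0) || !(decide (0 ≤ (n : ℤ) + 351 * B - 352 * (S / 275264))) ||
      !(decide (0 ≤ (n : ℤ) - 81 * B + 80 * (S / 275264)))

/-- the check -/
def chkE (n : ℕ) : Bool :=
  let q := n / Nat.gcd n 306936
  (List.range (n / 2576 + 1)).all fun c => (List.range ((n - 2576 * c) / 759 + 1)).all fun b =>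
    (b == 0 && c == 0) ||
      let a := n - 2576 * c - 759 * b
      let B : ℤ := (a : ℤ) + 55 * b - 112 * c
      !(9720970056 * B % n == 0) || (List.range ((a + 253 * b) / q + 1)).all fun j =>
        (n == 21896 && b == 15 && c == 4 && j == 8) || chkU n B (q * j)

theorem chkE_all : cands.all chkE = true := by decide +kernel

theorem chkU_false {n v : ℕ} {B C : ℤ} (hn : 0 < n)
    (hR : (n : ℤ) * (n + 31671 * B + 275264 * C) = 306936 * (v : ℤ) ^ 2)
    (p1 : 0 ≤ (n : ℤ) + 351 * B - 352 * C) (p2 : 0 ≤ (n : ℤ) - 81 * B + 80 * C) : chkU n B v = false := by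
  have hd : n ∣ 306936 * v ^ 2 := by
    have : (n : ℤ) ∣ ((306936 * v ^ 2 : ℕ) : ℤ) := ⟨_, by push_cast; rw [← hR]⟩
    exact_mod_cast this
  obtain ⟨t, ht⟩ := hd
  have e1 : 306936 * v ^ 2 / n = t := by rw [ht]; exact Nat.mul_div_cancel_left _ hn
  have e2 : (306936 * v ^ 2 % n == 0) = true := by rw [beq_iff_eq]; exact Nat.mod_eq_zero_of_dvd ⟨t, ht⟩
  have e3 : (n : ℤ) + 31671 * B + 275264 * C = t := by
    have h1 : ((306936 * v ^ 2 : ℕ) : ℤ) = n * t := by exact_mod_cast ht
    push_cast at h1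
    rw [h1] at hR
    exact mul_left_cancel₀ (by exact_mod_cast hn.ne') hR
  have e4 : (t : ℤ) - n - 31671 * B = 275264 * C := by linarith
  have e5 : 275264 * C / 275264 = C := by omega
  have e6 : (275264 * C % 275264 == 0) = true := by rw [beq_iff_eq]; omega
  simp only [chkU, e1, e2, e4, e5, e6, decide_eq_true p1, decide_eq_true p2]
  rfl

theorem arithE {n : ℕ} {u B C : ℤ} {a b c : ℕ} (hn : n ∣ 1255205709190661721292800)
    (h29 : n % 29 = 1 ∨ n % 29 = 28)
    (h23 : n % 23 = 0 ∨ n % 23 = 1 ∨ n % 23 = 22 ∨ n % 23 = 11 ∨ n % 23 = 12)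
    (h17 : n % 17 = 0 ∨ n % 17 = 1 ∨ n % 17 = 16)
    (h1 : (n : ℤ) = a + 759 * b + 2576 * c) (h2 : B = a + 55 * b - 112 * c) (hu : |u| ≤ a + 253 * b)
    (du : (n : ℤ) ∣ 306936 * u) (dB : (n : ℤ) ∣ 9720970056 * B)
    (hR : (n : ℤ) * (n + 31671 * B + 275264 * C) = 306936 * u ^ 2) (p1 : 0 ≤ (n : ℤ) + 351 * B - 352 * C)
    (p2 : 0 ≤ (n : ℤ) - 81 * B + 80 * C) (hne : b ≠ 0 ∨ c ≠ 0) :
    57477 ≤ n ∨ (n = 21896 ∧ b = 15 ∧ c = 4 ∧ |u| = 3128) := by
  by_contra H
  rw [not_or, not_le] at H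
  obtain ⟨hlt, H⟩ := H
  have hpos : 0 < n := Nat.pos_of_ne_zero (by rintro rfl; simp at h29)
  have hok : okE n = true := by
    rw [okE, Bool.and_eq_true, Bool.and_eq_true]
    refine ⟨?_, ?_, ?_⟩
    · rw [beq_iff_eq]; exact Nat.mod_eq_zero_of_dvd hn
    · rcases h23 with h | h | h | h | h <;> simp [h]
    · rcases h17 with h | h | h <;> simp [h]
  have h3 := List.all_eq_true.1 chkE_all n (mem_cands hok h29 hlt)
  have hc : c < n / 2576 + 1 := by omega
  have hb : b < (n - 2576 * c) / 759 + 1 := by omega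
  have h4 := List.all_eq_true.1 (List.all_eq_true.1 h3 c (List.mem_range.2 hc)) b (List.mem_range.2 hb)
  have e1 : (b == 0 && c == 0) = false := by
    rw [Bool.and_eq_false_iff, beq_eq_false_iff_ne, beq_eq_false_iff_ne]; exact hne
  have e2 : n - 2576 * c - 759 * b = a := by omega
  have e3 : (a : ℤ) + 55 * b - 112 * c = B := h2.symm
  have e4 : (9720970056 * B % n == 0) = true := by rw [beq_iff_eq]; exact Int.emod_eq_zero_of_dvd dB
  simp only [e1, e2, e3, e4, Bool.not_true, Bool.false_or] at h4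
  -- the value of `u`
  have hqd : n / Nat.gcd n 306936 ∣ u.natAbs := by
    have h5 : n ∣ 306936 * u.natAbs := by
      have := Int.natAbs_dvd_natAbs.2 du
      rwa [Int.natAbs_mul, Int.natAbs_natCast] at this
    have hg : 0 < Nat.gcd n 306936 := Nat.gcd_pos_of_pos_left _ hpos
    have h6 : Nat.Coprime (n / Nat.gcd n 306936) (306936 / Nat.gcd n 306936) := Nat.coprime_div_gcd_div_gcd hg
    apply h6.dvd_of_dvd_mul_left
    obtain ⟨g1, hg1⟩ := Nat.gcd_dvd_left n 306936
    obtain ⟨g2, hg2⟩ := Nat.gcd_dvd_right n 306936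
    set g := Nat.gcd n 306936 with hgdef
    have e5 : n / g = g1 := by rw [hg1]; exact Nat.mul_div_cancel_left _ hg
    have e6 : 306936 / g = g2 := by rw [hg2]; exact Nat.mul_div_cancel_left _ hg
    rw [e5, e6]
    rw [hg1, hg2, mul_assoc] at h5
    exact Nat.dvd_of_mul_dvd_mul_left hg h5
  obtain ⟨j, hj⟩ := hqd
  set q := n / Nat.gcd n 306936 with hq
  have hq0 : 0 < q := Nat.div_pos (Nat.le_of_dvd hpos (Nat.gcd_dvd_left _ _)) (Nat.gcd_pos_of_pos_left _ hpos)
  have hu' : q * j ≤ a + 253 * b := by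
    rw [← hj]
    have : ((u.natAbs : ℕ) : ℤ) ≤ ((a + 253 * b : ℕ) : ℤ) := by push_cast; exact hu
    exact_mod_cast this
  have hj' : j < (a + 253 * b) / q + 1 := by
    rw [Nat.lt_succ_iff, Nat.le_div_iff_mul_le hq0, mul_comm]; exact hu'
  have h5 := List.all_eq_true.1 h4 j (List.mem_range.2 hj')
  have e7 : chkU n B (q * j) = false := by
    apply chkU_false hpos (C := C) _ p1 p2
    rw [hR, ← hj, Int.natCast_natAbs, sq_abs]
  rw [e7, Bool.or_false] at h5
  simp only [Bool.and_eq_true, beq_iff_eq] at h5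
  obtain ⟨⟨⟨f1, f2⟩, f3⟩, f4⟩ := h5
  refine H ⟨f1, f2, f3, ?_⟩
  rw [Int.abs_eq_natAbs, hj, hq, f1, f4]
  norm_num

/-- the last candidate contradicts the Cauchy-Schwarz inequality of `Fi23` on the eigenspaces of a transposition -/
theorem kill_21896 {u B X : ℤ} {a0 a1 b0 b1 : ℕ} (ha : a0 + a1 = 207) (hb : b0 + b1 = 15) (hu : |u| = 3128)
    (h1 : u = (a0 : ℤ) - a1 + 253 * (b0 - b1)) (h2 : X = (a0 : ℤ) - a1 - 3 * (b0 - b1)) (hB : B = 584)
    (c1 : 391 * (u + B) ^ 2 ≤ (21896 + u) * (21896 + u + 390 * (B + X)))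
    (c2 : 391 * (u - B) ^ 2 ≤ (21896 - u) * (21896 - u + 390 * (B - X))) : False := by
  have ha' : (a1 : ℤ) = 207 - a0 := by omega
  have hb' : (b1 : ℤ) = 15 - b0 := by omega
  have hb0 : b0 ≤ 15 := by omega
  subst hB
  rcases (abs_eq (by norm_num)).1 hu with h | h <;> subst h <;> subst h2 <;> interval_cases b0 <;> omega

end Cfsg.Agent.H201.Fi
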