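import Cfsg.Agent.H201.Fi.Weights

/-!
# Sums of signs over the Golay code
-/

set_option autoImplicit false
set_option maxRecDepth 100000

namespace Cfsg.Agent.H201.Fi

open Cfsg Cfsg.Agent.H852.GolayMod Cfsg.Agent.Golay.Core

/-- the parity of the bits -/
def par : List ℕ → ℕ → Bool
  | [], _ => false
  | i :: l, m => xor (m.testBit i) (par l m)

theorem par_spec (w : GolayPt → ZMod 2) : ∀ L : List GolayPt,
    (L.map w).sum = if par (L.map pos) (mask w) = true then 1 else 0
  | [] => by simp [par]
  | p :: L => by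
    rw [List.map_cons, List.sum_cons, par_spec w L, List.map_cons, par, testBit_mask]
    rcases z2 (w p) with h | h <;> rw [h] <;> cases par (L.map pos) (mask w) <;> decide

/-- the number of the words of weight `k` and given parity -/
def cn (k : ℕ) (l : List ℕ) (b : Bool) : ℕ := cntD (fun j => popc 24 (enc j) == k && (par l (enc j) == b)) 12 0

theorem ncard_cn (k : ℕ) (L : List GolayPt) (b : Bool) :
    {w : GolayPt → ZMod 2 | w ∈ golayCode ∧ (hammingNorm w = k ∧ par (L.map pos) (mask w) = b)}.ncard =
      cn k (L.map pos) b := by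
  rw [cn]
  apply ncard_golayCode_filter (fun w => hammingNorm w = k ∧ par (L.map pos) (mask w) = b)
    (fun m => popc 24 m == k && (par (L.map pos) m == b))
  intro w _
  rw [Bool.and_eq_true, beq_iff_eq, beq_iff_eq, hammingNorm_eq_popc]

open Classical in
/-- the sum of the signs over the words of weight `k` -/
noncomputable def S (k : ℕ) (L : List GolayPt) : ℂ :=
  ∑ w : GolayPt → ZMod 2, if w ∈ golayCode ∧ hammingNorm w = k then sgn ((L.map w).sum) else 0

open Classical in
theorem S_eq (k : ℕ) (L : List GolayPt) : S k L = (cn k (L.map pos) false : ℂ) - cn k (L.map pos) true := by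
  have h1 : ∀ w : GolayPt → ZMod 2, (if w ∈ golayCode ∧ hammingNorm w = k then sgn ((L.map w).sum) else 0) =
      (if w ∈ golayCode ∧ (hammingNorm w = k ∧ par (L.map pos) (mask w) = false) then (1 : ℂ) else 0) -
        (if w ∈ golayCode ∧ (hammingNorm w = k ∧ par (L.map pos) (mask w) = true) then (1 : ℂ) else 0) := by
    intro w
    by_cases h : w ∈ golayCode ∧ hammingNorm w = k
    · rw [if_pos h, par_spec]
      cases hp : par (L.map pos) (mask w)
      · simp [h.1, h.2, sgn_zero]
      · have h1 : sgn 1 = -1 := if_neg (by decide)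
        simp [h.1, h.2, h1]
    · rw [if_neg h, if_neg (fun h' => h ⟨h'.1, h'.2.1⟩), if_neg (fun h' => h ⟨h'.1, h'.2.1⟩), sub_zero]
  unfold S
  simp only [h1]
  rw [Finset.sum_sub_distrib, Finset.sum_boole, Finset.sum_boole, ← ncard_cn, ← ncard_cn]
  congr 2
  · rw [← Set.ncard_coe_finset]; congr 1; ext w; simp
  · rw [← Set.ncard_coe_finset]; congr 1; ext w; simp

/-- the table -/
def tab : List (ℕ × List ℕ × ℤ) := [
  (0, [], 1), (8, [], 759), (12, [], 2576), (16, [], 759), (24, [], 1),
  (0, [23], 1), (8, [23], 253), (12, [23], 0), (16, [23], -253), (24, [23], -1),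
  (0, [23, 0], 1), (8, [23, 0], 55), (12, [23, 0], -112), (16, [23, 0], 55), (24, [23, 0], 1),
  (0, [23, 0, 1], 1), (8, [23, 0, 1], -3), (12, [23, 0, 1], 0), (16, [23, 0, 1], 3), (24, [23, 0, 1], -1),
  (0, [23, 0, 1, 2], 1), (8, [23, 0, 1, 2], -9), (12, [23, 0, 1, 2], 16), (16, [23, 0, 1, 2], -9), (24, [23, 0, 1, 2], 1)]

/-! ### Fast evaluation of the counts: one pass for each list of positions -/

/-- the numbers of ones of the bytes, four bits each -/
def popTab : ℕ :=
  0x8776766576656554766565546554544376656554655454436554544354434332766565546554544365545443544343326554544354434332544343324332322176656554655454436554544354434332655454435443433254434332433232216554544354434332544343324332322154434332433232214332322132212110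

theorem popTab_spec : ∀ m < 256, popc 8 m = (popTab >>> (4 * m)) % 16 := by decide +kernel

theorem popc_add (a : ℕ) : ∀ b n : ℕ, popc (b + a) n = popc b n + popc a (n / 2 ^ b)
  | 0, n => by rw [Nat.zero_add, popc_zero_left, Nat.zero_add, pow_zero, Nat.div_one]
  | b + 1, n => by
    rw [Nat.add_right_comm, popc_succ, popc_succ, popc_add a b, Nat.div_div_eq_div_mul, ← pow_succ', Nat.add_assoc]

theorem popc_mod : ∀ a n : ℕ, popc a (n % 2 ^ a) = popc a n
  | 0, n => rfl
  | a + 1, n => by
    rw [popc_succ, popc_succ, pow_succ', Nat.mod_mul_right_div_self, popc_mod a, Nat.mod_mul_right_mod]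

/-- the number of ones, from the table -/
def popf (n : ℕ) : ℕ :=
  (popTab >>> (4 * (n % 256))) % 16 +
    ((popTab >>> (4 * (n / 256 % 256))) % 16 + (popTab >>> (4 * (n / 256 / 256 % 256))) % 16)

theorem popc_eq_popf (n : ℕ) : popc 24 n = popf n := by
  have h8 : ∀ m, popc 8 m = (popTab >>> (4 * (m % 256))) % 16 := by
    intro m
    rw [← popc_mod 8 m]
    exact popTab_spec _ (Nat.mod_lt _ (by norm_num))
  rw [show 24 = 8 + (8 + 8) from rfl, popc_add, popc_add, h8, h8, h8]
  rfl

theorem sum_two (f : ℕ → ℕ) (N : ℕ) :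
    ∑ k ∈ Finset.range (2 * N), f k = ∑ k ∈ Finset.range N, (f (2 * k) + f (2 * k + 1)) := by
  induction N with
  | zero => rfl
  | succ N ih => rw [Nat.mul_succ, Finset.sum_range_succ, Finset.sum_range_succ, ih, Finset.sum_range_succ, add_assoc]

/-- the sum of `f` over the words `a + w`, `w` in the span of the list -/
def spn (f : ℕ → ℕ) : List ℕ → ℕ → ℕ
  | [], a => f a
  | c :: L, a => spn f L a + spn f L (Nat.xor a c)

theorem spn_spec (f : ℕ → ℕ) : ∀ (L : List ℕ) (a : ℕ),
    spn f L a = ∑ k ∈ Finset.range (2 ^ L.length), f (a ^^^ lin L k)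
  | [], a => by simp [spn, lin]
  | c :: L, a => by
    rw [spn, spn_spec f L, spn_spec f L, List.length_cons, pow_succ', sum_two, ← Finset.sum_add_distrib]
    refine Finset.sum_congr rfl fun k _ => ?_
    have h1 : lin (c :: L) (2 * k) = lin L k := by
      rw [lin_cons, Nat.mul_mod_right, Nat.mul_zero, Nat.mul_div_cancel_left k (by norm_num), Nat.zero_xor]
    have h2 : lin (c :: L) (2 * k + 1) = c ^^^ lin L k := by
      have e1 : (2 * k + 1) % 2 = 1 := by omega
      have e2 : (2 * k + 1) / 2 = k := by omega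
      rw [lin_cons, e1, e2, Nat.mul_one]
    rw [h1, h2, ← Nat.xor_assoc]
    rfl

/-- the digits of a sum of few powers -/
theorem digit_sum {N B : ℕ} (code : ℕ → ℕ) (hN : N < B) (c : ℕ) :
    (∑ k ∈ Finset.range N, B ^ code k) / B ^ c % B = ∑ k ∈ Finset.range N, if code k = c then 1 else 0 := by
  have hB : 0 < B := by omega
  have h : ∀ k, B ^ code k = (if code k < c then B ^ code k else 0) +
      B ^ c * ((if code k = c then 1 else 0) + B * (if c < code k then B ^ (code k - c - 1) else 0)) := by
    intro k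
    rcases lt_trichotomy (code k) c with h | h | h
    · rw [if_pos h, if_neg (by omega), if_neg (by omega)]; simp
    · rw [if_neg (by omega), if_pos h, if_neg (by omega), h]; simp
    · rw [if_neg (by omega), if_neg (by omega), if_pos h, Nat.zero_add, Nat.zero_add, ← pow_succ', ← pow_add]
      congr 1
      omega
  rw [Finset.sum_congr rfl (fun k _ => h k), Finset.sum_add_distrib, ← Finset.mul_sum, Finset.sum_add_distrib,
    ← Finset.mul_sum]
  have hX : ∑ k ∈ Finset.range N, (if code k < c then B ^ code k else 0) < B ^ c := by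
    rcases c with _ | c
    · simp
    · calc ∑ k ∈ Finset.range N, (if code k < c + 1 then B ^ code k else 0)
          ≤ ∑ k ∈ Finset.range N, B ^ c := by
            refine Finset.sum_le_sum fun k _ => ?_
            split_ifs with h
            · exact Nat.pow_le_pow_right hB (by omega)
            · exact Nat.zero_le _
        _ = N * B ^ c := by rw [Finset.sum_const, Finset.card_range, smul_eq_mul]
        _ < B ^ (c + 1) := by rw [pow_succ']; exact Nat.mul_lt_mul_of_pos_right hN (pow_pos hB c)
  have hn : ∑ k ∈ Finset.range N, (if code k = c then 1 else 0) < B := by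
    refine lt_of_le_of_lt ?_ hN
    calc ∑ k ∈ Finset.range N, (if code k = c then 1 else 0) ≤ ∑ k ∈ Finset.range N, 1 := by
          refine Finset.sum_le_sum fun k _ => ?_
          split_ifs <;> norm_num
      _ = N := by simp
  rw [Nat.add_mul_div_left _ _ (pow_pos hB c), Nat.div_eq_of_lt hX, Nat.zero_add, Nat.add_mul_mod_self_left,
    Nat.mod_eq_of_lt hn]

/-- all counts for one list, as digits to the base `8192` -/
def pk (l : List ℕ) : ℕ := spn (fun m => 8192 ^ (2 * popf m + (par l m).toNat)) basis 0

theorem cn_eq (k : ℕ) (l : List ℕ) (b : Bool) : cn k l b = pk l / 8192 ^ (2 * k + b.toNat) % 8192 := by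
  have hlen : basis.length = 12 := rfl
  rw [pk, spn_spec, hlen, digit_sum (fun j => 2 * popf (0 ^^^ lin basis j) + (par l (0 ^^^ lin basis j)).toNat)
    (by norm_num), cn, ← card_filter_range, Finset.card_filter]
  refine Finset.sum_congr rfl fun j _ => ?_
  have e : (popc 24 (enc j) == k && (par l (enc j) == b)) = true ↔
      2 * popf (0 ^^^ lin basis j) + (par l (0 ^^^ lin basis j)).toNat = 2 * k + b.toNat := by
    rw [Nat.zero_xor, ← popc_eq_popf, Bool.and_eq_true, beq_iff_eq, beq_iff_eq, enc]
    cases par l (lin basis j) <;> cases b <;> simp <;> omega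
  exact if_congr e rfl rfl

theorem pk0 : pk [] =
    1 * 8192 ^ 0 + 759 * 8192 ^ 16 + 2576 * 8192 ^ 24 + 759 * 8192 ^ 32 + 1 * 8192 ^ 48 := by decide +kernel

theorem pk1 : pk [23] =
    1 * 8192 ^ 0 + 506 * 8192 ^ 16 + 253 * 8192 ^ 17 + 1288 * 8192 ^ 24 + 1288 * 8192 ^ 25 + 253 * 8192 ^ 32 + 506 * 8192 ^ 33 + 1 * 8192 ^ 49 := by decide +kernel

theorem pk2 : pk [23, 0] =
    1 * 8192 ^ 0 + 407 * 8192 ^ 16 + 352 * 8192 ^ 17 + 1232 * 8192 ^ 24 + 1344 * 8192 ^ 25 + 407 * 8192 ^ 32 + 352 * 8192 ^ 33 + 1 * 8192 ^ 48 := by decide +kernel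

theorem pk3 : pk [23, 0, 1] =
    1 * 8192 ^ 0 + 378 * 8192 ^ 16 + 381 * 8192 ^ 17 + 1288 * 8192 ^ 24 + 1288 * 8192 ^ 25 + 381 * 8192 ^ 32 + 378 * 8192 ^ 33 + 1 * 8192 ^ 49 := by decide +kernel

theorem pk4 : pk [23, 0, 1, 2] =
    1 * 8192 ^ 0 + 375 * 8192 ^ 16 + 384 * 8192 ^ 17 + 1296 * 8192 ^ 24 + 1280 * 8192 ^ 25 + 375 * 8192 ^ 32 + 384 * 8192 ^ 33 + 1 * 8192 ^ 48 := by decide +kernel

/-- the check of one row of the table -/
theorem row_all (l : List ℕ) {n : ℕ} (h : pk l = n) (r : List (ℕ × ℤ))
    (hr : r.all (fun s => ((n / 8192 ^ (2 * s.1) % 8192 : ℕ) : ℤ) - ((n / 8192 ^ (2 * s.1 + 1) % 8192 : ℕ) : ℤ) == s.2) =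
      true) :
    (r.map (fun s => (s.1, l, s.2))).all (fun t => (cn t.1 t.2.1 false : ℤ) - cn t.1 t.2.1 true == t.2.2) = true := by
  subst h
  rw [List.all_eq_true] at hr ⊢
  intro t ht
  obtain ⟨s, hs, rfl⟩ := List.mem_map.1 ht
  have h1 := hr s hs
  have h2 := cn_eq s.1 l false
  have h3 := cn_eq s.1 l true
  rw [Bool.toNat_false, Nat.add_zero] at h2
  rw [Bool.toNat_true] at h3
  rw [← h2, ← h3] at h1
  exact h1

theorem tab_all : tab.all (fun t => (cn t.1 t.2.1 false : ℤ) - cn t.1 t.2.1 true == t.2.2) = true := by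
  have h : tab =
      [(0, 1), (8, 759), (12, 2576), (16, 759), (24, 1)].map (fun s => (s.1, [], s.2)) ++
      ([(0, 1), (8, 253), (12, 0), (16, -253), (24, -1)].map (fun s => (s.1, [23], s.2)) ++
      ([(0, 1), (8, 55), (12, -112), (16, 55), (24, 1)].map (fun s => (s.1, [23, 0], s.2)) ++
      ([(0, 1), (8, -3), (12, 0), (16, 3), (24, -1)].map (fun s => (s.1, [23, 0, 1], s.2)) ++
      [(0, 1), (8, -9), (12, 16), (16, -9), (24, 1)].map (fun s => (s.1, [23, 0, 1, 2], s.2))))) := rfl
  rw [h, List.all_append, List.all_append, List.all_append, List.all_append,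
    row_all [] pk0 _ (by decide +kernel), row_all [23] pk1 _ (by decide +kernel),
    row_all [23, 0] pk2 _ (by decide +kernel), row_all [23, 0, 1] pk3 _ (by decide +kernel),
    row_all [23, 0, 1, 2] pk4 _ (by decide +kernel)]
  decide

theorem S_tab {k : ℕ} {L : List GolayPt} {z : ℤ} (h : (k, L.map pos, z) ∈ tab) : S k L = z := by
  have h1 := List.all_eq_true.1 tab_all _ h
  rw [beq_iff_eq] at h1
  have h2 : (cn k (L.map pos) false : ℤ) - cn k (L.map pos) true = z := h1
  rw [S_eq, ← h2]
  push_cast
  ring

/-! ### The formula -/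

theorem sgn_sum (w : GolayPt → ZMod 2) : ∀ L : List GolayPt, lam w (L.map pt1).prod = sgn ((L.map w).sum)
  | [] => by rw [List.map_nil, List.prod_nil, lam_one, List.map_nil, List.sum_nil, sgn_zero]
  | p :: L => by
    rw [List.map_cons, List.prod_cons, lam_mul, sgn_sum w L, List.map_cons, List.sum_cons, sgn_add]
    congr 1
    rw [lam_def]
    have h : Multiplicative.toAdd (pt1 p) = ind {p} := rfl
    rw [h, dot_ind, Finset.sum_singleton]

universe u

section Final

variable {G : Type u} [Group G] {χ : G → ℂ} {e : GolayPt → G}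

open Classical in
/-- **the weights** -/
theorem exists_weights (hχ : IsCharacter G χ) (sq : ∀ p, e p * e p = 1) (comm : ∀ p q, e p * e q = e q * e p)
    (hM : ∀ σ ∈ M24, ∃ n : G, ∀ p, n * e p * n⁻¹ = e (σ p))
    (oct : ∃ L : List GolayPt, ind L.toFinset ∈ golayCode ∧ L.length = 8 ∧ L.Nodup ∧ (L.map e).prod = 1) :
    ∃ a0 a1 b0 b1 c : ℕ, ∀ L : List GolayPt,
      χ (L.map e).prod = a0 * S 0 L + b0 * S 8 L + c * S 12 L + b1 * S 16 L + a1 * S 24 L := by
  obtain ⟨φ, hφ⟩ := exists_hom sq comm
  have hL : ∀ L : List GolayPt, φ (L.map pt1).prod = (L.map e).prod := by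
    intro L
    rw [map_list_prod, List.map_map]
    congr 1
    exact List.map_congr_left fun p _ => hφ p
  have hconj : ∀ σ ∈ M24, ∃ n : G, ∀ a, φ (actM σ a) = n * φ a * n⁻¹ := by
    intro σ hσ
    obtain ⟨n, hn⟩ := hM σ hσ
    refine ⟨n, ?_⟩
    have h1 : φ.comp (actM σ) = (MulAut.conj n).toMonoidHom.comp φ := by
      apply hom_ext
      intro p
      show φ (actM σ (pt1 p)) = n * φ (pt1 p) * n⁻¹
      rw [actM_pt, hφ, hφ, hn]
    intro a
    exact DFunLike.congr_fun h1 a
  -- the code is in the kernel
  have hker : ∀ c ∈ golayCode, φ (Multiplicative.ofAdd c) = 1 := by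
    let W : Submodule (ZMod 2) (GolayPt → ZMod 2) :=
      { carrier := {c | φ (Multiplicative.ofAdd c) = 1}
        zero_mem' := map_one φ
        add_mem' := by
          intro a b ha hb
          show φ (Multiplicative.ofAdd (a + b)) = 1
          rw [ofAdd_add, map_mul, ha, hb, one_mul]
        smul_mem' := by
          intro x a ha
          show φ (Multiplicative.ofAdd (x • a)) = 1
          rcases z2 x with rfl | rfl
          · rw [zero_smul]; exact map_one φ
          · rw [one_smul]; exact ha }
    have hW : Cfsg.Agent.H852.GolayMod.Inv W := by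
      intro σ hσ w hw
      obtain ⟨n, hn⟩ := hconj σ hσ
      show φ (actM σ (Multiplicative.ofAdd w)) = 1
      rw [hn]
      have : φ (Multiplicative.ofAdd w) = 1 := hw
      rw [this, mul_one, mul_inv_cancel]
    obtain ⟨L, h1, h2, h3, h4⟩ := oct
    have h5 : ind L.toFinset ∈ W := by
      show φ (Multiplicative.ofAdd (ind L.toFinset)) = 1
      have h6 : Multiplicative.ofAdd (ind L.toFinset) = (L.map pt1).prod := by
        clear h1 h2 h4
        induction L with
        | nil =>
          rw [List.toFinset_nil, List.map_nil, List.prod_nil]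
          apply Multiplicative.toAdd.injective
          funext p
          show ind ∅ p = 0
          rw [ind_apply]
          simp
        | cons p L ih =>
          rw [List.nodup_cons] at h3
          rw [List.map_cons, List.prod_cons, ← ih h3.2]
          apply Multiplicative.toAdd.injective
          show ind (p :: L).toFinset = ind {p} + ind L.toFinset
          rw [← ind_symmDiff]
          congr 1
          rw [List.toFinset_cons]
          ext q
          rw [Finset.mem_symmDiff, Finset.mem_insert, Finset.mem_singleton]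
          constructor
          · rintro (rfl | h)
            · left; exact ⟨rfl, fun h => h3.1 (List.mem_toFinset.1 h)⟩
            · right
              refine ⟨h, ?_⟩
              rintro rfl
              exact h3.1 (List.mem_toFinset.1 h)
          · rintro (h | h)
            · exact Or.inl h.1
            · exact Or.inr h.1
      rw [h6, hL, h4]
    exact fun c hc => code_le_of_octad hW h5 h1 (by rw [hammingNorm_ind, List.toFinset_card_of_nodup h3, h2]) hc
  choose m hm using fun w => exists_mult hχ φ w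
  have hinv : ∀ σ ∈ M24, ∀ a, χ (φ (actM σ a)) = χ (φ a) := by
    intro σ hσ a
    obtain ⟨n, hn⟩ := hconj σ hσ
    rw [hn]
    obtain ⟨k, ρ, rfl⟩ := hχ
    rw [Representation.char_conj]
  have hact : ∀ σ ∈ M24, ∀ w, m (act σ w) = m w := fun σ hσ w => mult_act hm (hinv σ hσ) w
  -- representatives
  obtain ⟨f1, -, -, f4, -⟩ := word_facts
  obtain ⟨g1, -, -, g4, -⟩ := norm_facts
  set v8 := word 13062145 with hv8
  set v12 := word 8245261 with hv12
  refine ⟨m 0, m 1, m v8, m (1 + v8), m v12, fun L => ?_⟩
  have hval : ∀ w : GolayPt → ZMod 2, (m w : ℂ) * sgn ((L.map w).sum) =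
      m 0 * (if w ∈ golayCode ∧ hammingNorm w = 0 then sgn ((L.map w).sum) else 0) +
      m v8 * (if w ∈ golayCode ∧ hammingNorm w = 8 then sgn ((L.map w).sum) else 0) +
      m v12 * (if w ∈ golayCode ∧ hammingNorm w = 12 then sgn ((L.map w).sum) else 0) +
      m (1 + v8) * (if w ∈ golayCode ∧ hammingNorm w = 16 then sgn ((L.map w).sum) else 0) +
      m 1 * (if w ∈ golayCode ∧ hammingNorm w = 24 then sgn ((L.map w).sum) else 0) := by
    intro w
    by_cases hw : w ∈ golayCode
    · rcases weight_cases hw with h | h | h | h | h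
      · have hw0 : w = 0 := hammingNorm_eq_zero.1 h
        rw [h]
        simp [hw, hw0]
      · obtain ⟨σ, hσ, h6⟩ := octad_act f1 hw g1 h
        have h7 : m w = m v8 := by rw [← h6, hact σ hσ]
        rw [h, h7]
        simp [hw]
      · obtain ⟨σ, hσ, h6⟩ := dodecad_act f4 hw g4 h
        have h7 : m w = m v12 := by rw [← h6, hact σ hσ]
        rw [h, h7]
        simp [hw]
      · have h8 : hammingNorm (1 + w) = 8 := by rw [hammingNorm_one_add, h]
        obtain ⟨σ, hσ, h6⟩ := octad_act f1 (golayCode.add_mem Cfsg.Agent.Golay.Core.one_mem hw) g1 h8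
        have h9 : act σ (1 + v8) = w := by
          rw [act_add, h6, ← add_assoc]
          have : act σ 1 + 1 = 0 := add_self 1
          rw [this, zero_add]
        have h7 : m w = m (1 + v8) := by rw [← hact σ hσ (1 + v8), h9]
        rw [h, h7]
        simp [hw]
      · have hw1 : w = 1 := eq_one_of_norm h
        rw [h, ← hw1]
        simp [hw]
    · rw [mult_code hm hker hw]
      simp [hw]
  rw [← hL, inversion hm]
  simp only [sgn_sum, hval]
  rw [Finset.sum_add_distrib, Finset.sum_add_distrib, Finset.sum_add_distrib, Finset.sum_add_distrib,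
    ← Finset.mul_sum, ← Finset.mul_sum, ← Finset.mul_sum, ← Finset.mul_sum, ← Finset.mul_sum]
  rfl

/-- **the values on products of up to four of the elements** -/
theorem exists_vals (hχ : IsCharacter G χ) (sq : ∀ p, e p * e p = 1) (comm : ∀ p q, e p * e q = e q * e p)
    (hM : ∀ σ ∈ M24, ∃ n : G, ∀ p, n * e p * n⁻¹ = e (σ p))
    (oct : ∃ L : List GolayPt, ind L.toFinset ∈ golayCode ∧ L.length = 8 ∧ L.Nodup ∧ (L.map e).prod = 1) :
    ∃ a0 a1 b0 b1 c : ℕ, χ 1 = a0 + a1 + 759 * (b0 + b1) + 2576 * c ∧
      χ (e none) = a0 - a1 + 253 * (b0 - b1) ∧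
      χ (e none * e (some 0)) = a0 + a1 + 55 * (b0 + b1) - 112 * c ∧
      χ (e none * (e (some 0) * e (some 1))) = a0 - a1 - 3 * (b0 - b1) ∧
      χ (e none * (e (some 0) * (e (some 1) * e (some 2)))) = a0 + a1 - 9 * (b0 + b1) + 16 * c := by
  obtain ⟨a0, a1, b0, b1, c, h⟩ := exists_weights hχ sq comm hM oct
  refine ⟨a0, a1, b0, b1, c, ?_, ?_, ?_, ?_, ?_⟩
  · have h1 := h []
    rw [List.map_nil, List.prod_nil, S_tab (k := 0) (z := 1) (by decide +kernel),
      S_tab (k := 8) (z := 759) (by decide +kernel), S_tab (k := 12) (z := 2576) (by decide +kernel),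
      S_tab (k := 16) (z := 759) (by decide +kernel), S_tab (k := 24) (z := 1) (by decide +kernel)] at h1
    rw [h1]; push_cast; ring
  · have h1 := h [none]
    rw [S_tab (k := 0) (z := 1) (by decide +kernel),
      S_tab (k := 8) (z := 253) (by decide +kernel), S_tab (k := 12) (z := 0) (by decide +kernel),
      S_tab (k := 16) (z := -253) (by decide +kernel), S_tab (k := 24) (z := -1) (by decide +kernel)] at h1
    simp only [List.map_cons, List.map_nil, List.prod_cons, List.prod_nil, mul_one] at h1
    rw [h1]; push_cast; ring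
  · have h1 := h [none, some 0]
    rw [S_tab (k := 0) (z := 1) (by decide +kernel),
      S_tab (k := 8) (z := 55) (by decide +kernel), S_tab (k := 12) (z := -112) (by decide +kernel),
      S_tab (k := 16) (z := 55) (by decide +kernel), S_tab (k := 24) (z := 1) (by decide +kernel)] at h1
    simp only [List.map_cons, List.map_nil, List.prod_cons, List.prod_nil, mul_one] at h1
    rw [h1]; push_cast; ring
  · have h1 := h [none, some 0, some 1]
    rw [S_tab (k := 0) (z := 1) (by decide +kernel),
      S_tab (k := 8) (z := -3) (by decide +kernel), S_tab (k := 12) (z := 0) (by decide +kernel),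
      S_tab (k := 16) (z := 3) (by decide +kernel), S_tab (k := 24) (z := -1) (by decide +kernel)] at h1
    simp only [List.map_cons, List.map_nil, List.prod_cons, List.prod_nil, mul_one] at h1
    rw [h1]; push_cast; ring
  · have h1 := h [none, some 0, some 1, some 2]
    rw [S_tab (k := 0) (z := 1) (by decide +kernel),
      S_tab (k := 8) (z := -9) (by decide +kernel), S_tab (k := 12) (z := 16) (by decide +kernel),
      S_tab (k := 16) (z := -9) (by decide +kernel), S_tab (k := 24) (z := 1) (by decide +kernel)] at h1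
    simp only [List.map_cons, List.map_nil, List.prod_cons, List.prod_nil, mul_one] at h1
    rw [h1]; push_cast; ring

end Final

end Cfsg.Agent.H201.Fi
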