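import Cfsg.Agent.H201.Fi.Srg
import Cfsg.Agent.Characters.Core
import Cfsg.Agent.Characters.Central
import Cfsg.Agent.Fischer480.Defs

/-!
# The level inequalities for characters of 3-transposition groups

`level` : `χ` an irreducible character, `E` a set of involutions whose commuting graph is strongly regular, `z` an
element with `z² = 1` commuting with `E`, `ε = ±1`, `X g = χ g + ε χ (z g)`.  If `X f = x` on `E` and `X (f g) = c` for
commuting `f ≠ g` in `E`, then `(r + k) x² ≤ m (r m + k c)` with `m = X 1`.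
-/

set_option autoImplicit false

open scoped InnerProductSpace ComplexConjugate

namespace Cfsg.Agent.H201.Fi

open Cfsg Cfsg.Agent.Fischer480.Defs

universe u

section Vec

variable {G : Type u} [Group G] [Fintype G] {χ : G → ℂ}

/-- the sum `∑ χ (a t⁻¹) χ (t b)` -/
theorem sum_mul (hχ : IsIrrCharacter G χ) (a b : G) :
    ∑ t, χ (a * t⁻¹) * χ (t * b) = (Nat.card G : ℂ) / χ 1 * χ (a * b) := by
  have h := Cfsg.Agent.Characters.Central.sum_char_mul_char_inv_mul hχ (a * b)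
  rw [mul_div_right_comm] at h
  rw [← h]
  refine Fintype.sum_equiv ((Equiv.inv G).trans (Equiv.mulLeft a)) _ _ fun t => ?_
  show χ (a * t⁻¹) * χ (t * b) = χ (a * t⁻¹) * χ ((a * t⁻¹)⁻¹ * (a * b))
  congr 2
  group

/-- the vector of an element -/
noncomputable def vec (χ : G → ℂ) (z : G) (ε : ℝ) (a : G) : EuclideanSpace ℂ G :=
  WithLp.toLp 2 fun t => χ (a * t⁻¹) + ε * χ (z * a * t⁻¹)

theorem vec_apply (z : G) (ε : ℝ) (a t : G) : vec χ z ε a t = χ (a * t⁻¹) + ε * χ (z * a * t⁻¹) := rfl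

theorem conj_apply (hχ : IsIrrCharacter G χ) (g : G) : conj (χ g) = χ g⁻¹ := by
  obtain ⟨n, ρ, hρ, rfl⟩ := hχ
  exact (Cfsg.Agent.Characters.Core.isCharacter_apply_inv ⟨n, ρ, rfl⟩ g).symm

theorem cls (hχ : IsIrrCharacter G χ) (g h : G) : χ (h * g * h⁻¹) = χ g := by
  obtain ⟨n, ρ, hρ, rfl⟩ := hχ
  rw [Representation.char_conj]

theorem inner_vec (hχ : IsIrrCharacter G χ) {z : G} (hz : z * z = 1) {ε : ℝ} (hε : ε * ε = 1) {a b : G}
    (ha : z * a = a * z) (hb : z * b = b * z) :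
    ⟪vec χ z ε a, vec χ z ε b⟫_ℂ = 2 * ((Nat.card G : ℂ) / χ 1) * (χ (b * a⁻¹) + ε * χ (z * (b * a⁻¹))) := by
  have hzi : z⁻¹ = z := by rw [inv_eq_iff_mul_eq_one]; exact hz
  have e1 : ∀ t : G, conj (vec χ z ε a t) = χ (t * a⁻¹) + ε * χ (t * (a⁻¹ * z)) := by
    intro t
    rw [vec_apply, map_add, map_mul, Complex.conj_ofReal, conj_apply hχ, conj_apply hχ]
    congr 2
    · group
    · congr 1
      rw [mul_inv_rev, mul_inv_rev, inv_inv, hzi]
  rw [PiLp.inner_apply]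
  have e2 : ∀ t : G, ⟪vec χ z ε a t, vec χ z ε b t⟫_ℂ =
      χ (b * t⁻¹) * χ (t * a⁻¹) + ε * (χ (b * t⁻¹) * χ (t * (a⁻¹ * z))) +
        ε * (χ (z * b * t⁻¹) * χ (t * a⁻¹)) + (ε * ε) * (χ (z * b * t⁻¹) * χ (t * (a⁻¹ * z))) := by
    intro t
    rw [RCLike.inner_apply, e1, vec_apply]
    ring
  simp only [e2]
  rw [Finset.sum_add_distrib, Finset.sum_add_distrib, Finset.sum_add_distrib, ← Finset.mul_sum, ← Finset.mul_sum,
    ← Finset.mul_sum, sum_mul hχ, sum_mul hχ, sum_mul hχ, sum_mul hχ]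
  have hai : z * a⁻¹ = a⁻¹ * z := by
    rw [eq_inv_mul_iff_mul_eq, ← mul_assoc, ← ha, mul_assoc, mul_inv_cancel, mul_one]
  have e3 : χ (b * (a⁻¹ * z)) = χ (z * (b * a⁻¹)) := by
    congr 1
    rw [← hai, ← mul_assoc, ← hb, mul_assoc]
  have e4 : χ (z * b * a⁻¹) = χ (z * (b * a⁻¹)) := by rw [mul_assoc]
  have e5 : χ (z * b * (a⁻¹ * z)) = χ (b * a⁻¹) := by
    have := cls hχ (b * a⁻¹) z
    rw [hzi] at this
    rw [← this]
    congr 1
    group
  have e6 : (ε : ℂ) * ε = 1 := by exact_mod_cast hε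
  rw [e3, e4, e5, e6]
  ring

end Vec

/-! ### Counting in `E` -/

section Count

variable {G : Type u} [Group G] {E : Set G} [Fintype E]

open Classical in
/-- the adjacency matrix of the commuting graph -/
noncomputable def adj (f g : E) : ℝ := if (f : G) ≠ g ∧ Commute (f : G) g then 1 else 0

open Classical in
/-- the matrix `r I + A` -/
noncomputable def mat (r : ℕ) (f g : E) : ℝ := (if f = g then (r : ℝ) else 0) + adj f g

theorem adj_symm (f g : E) : adj f g = adj g f := by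
  unfold adj
  congr 1
  rw [eq_iff_iff]
  exact ⟨fun h => ⟨h.1.symm, h.2.symm⟩, fun h => ⟨h.1.symm, h.2.symm⟩⟩

theorem card_filter (P : G → Prop) [DecidablePred P] :
    ((Finset.univ.filter fun h : E => P h).card : ℕ) = {y | y ∈ E ∧ P y}.ncard := by
  have h1 : {y | y ∈ E ∧ P y} = Subtype.val '' ({h : E | P h} : Set E) := by
    ext y
    constructor
    · rintro ⟨h1, h2⟩; exact ⟨⟨y, h1⟩, h2, rfl⟩
    · rintro ⟨h, h1, rfl⟩; exact ⟨h.2, h1⟩
  rw [h1, Set.ncard_image_of_injective _ Subtype.val_injective, ← Set.ncard_coe_finset]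
  congr 1
  ext h
  simp

open Classical in
theorem sum_adj (f : E) : ∑ g, adj f g = ((Loc E (f : G)).ncard : ℝ) := by
  unfold adj
  rw [Finset.sum_boole, card_filter (E := E) (fun y : G => (f : G) ≠ y ∧ Commute (f : G) y)]
  congr 2
  ext y
  exact ⟨fun h => ⟨h.1, h.2.1.symm, h.2.2⟩, fun h => ⟨h.1, h.2.1.symm, h.2.2⟩⟩

open Classical in
theorem sum_adj_mul (f g : E) : ∑ h, adj f h * adj h g =
    (({y | y ∈ E ∧ ((f : G) ≠ y ∧ Commute (f : G) y) ∧ ((y : G) ≠ g ∧ Commute y (g : G))}.ncard : ℕ) : ℝ) := by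
  unfold adj
  simp only [← ite_and, mul_ite, mul_one, mul_zero]
  rw [Finset.sum_congr rfl (g := fun h : E => if ((f : G) ≠ h ∧ Commute (f : G) h) ∧ ((h : G) ≠ g ∧
    Commute (h : G) g) then (1 : ℝ) else 0)]
  · rw [Finset.sum_boole, card_filter (E := E) (fun y : G => ((f : G) ≠ y ∧ Commute (f : G) y) ∧ (y ≠ g ∧
      Commute y (g : G)))]
  · intro h _
    by_cases h1 : (f : G) ≠ h ∧ Commute (f : G) h <;> by_cases h2 : (h : G) ≠ g ∧ Commute (h : G) g <;>
      simp [h1, h2]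

variable {k l m r θ : ℕ} (hk : ∀ f ∈ E, (Loc E f).ncard = k)
  (hl : ∀ f ∈ E, ∀ g ∈ Loc E f, (Loc (Loc E f) g).ncard = l)
  (hm : ∀ f ∈ E, ∀ g ∈ E, ¬ Commute f g → (Com E f g).ncard = m)
  (e1 : r ^ 2 + k = θ * r + m) (e2 : 2 * r + l = θ + m)

include hk hl hm e1 e2

open Classical in
theorem mat_sq (f g : E) : ∑ h, mat r f h * mat r h g = θ * mat r f g + m := by
  have h1 : ∑ h, mat r f h * mat r h g =
      (if f = g then (r : ℝ) ^ 2 else 0) + 2 * r * adj f g + ∑ h, adj f h * adj h g := by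
    unfold mat
    simp only [add_mul, mul_add, Finset.sum_add_distrib, ite_mul, mul_ite, zero_mul, mul_zero, Finset.sum_ite_eq,
      Finset.sum_ite_eq', Finset.mem_univ, if_true]
    split_ifs <;> ring
  rw [h1, sum_adj_mul]
  unfold mat
  by_cases hfg : f = g
  · subst hfg
    have h2 : {y | y ∈ E ∧ ((f : G) ≠ y ∧ Commute (f : G) y) ∧ ((y : G) ≠ f ∧ Commute y (f : G))} = Loc E (f : G) := by
      ext y
      exact ⟨fun h => ⟨h.1, h.2.1.1.symm, h.2.1.2⟩, fun h => ⟨h.1, ⟨h.2.1.symm, h.2.2⟩, h.2.1, h.2.2.symm⟩⟩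
    have h3 : adj f f = 0 := by unfold adj; simp
    rw [h2, hk f f.2, h3, if_pos rfl, if_pos rfl]
    have e1' : (r : ℝ) ^ 2 + k = θ * r + m := by exact_mod_cast e1
    linarith
  · have hfg' : (f : G) ≠ g := fun h => hfg (Subtype.ext h)
    rw [if_neg hfg, if_neg hfg]
    by_cases hc : Commute (f : G) g
    · have h2 : {y | y ∈ E ∧ ((f : G) ≠ y ∧ Commute (f : G) y) ∧ ((y : G) ≠ g ∧ Commute y (g : G))} =
          Loc (Loc E (f : G)) (g : G) := by
        ext y
        exact ⟨fun h => ⟨⟨h.1, h.2.1.1.symm, h.2.1.2⟩, h.2.2.1, h.2.2.2.symm⟩,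
          fun h => ⟨h.1.1, ⟨h.1.2.1.symm, h.1.2.2⟩, h.2.1, h.2.2.symm⟩⟩
      have h3 : adj f g = 1 := by unfold adj; rw [if_pos ⟨hfg', hc⟩]
      rw [h2, hl f f.2 g ⟨g.2, hfg'.symm, hc⟩, h3]
      have e2' : 2 * (r : ℝ) + l = θ + m := by exact_mod_cast e2
      linarith
    · have h2 : {y | y ∈ E ∧ ((f : G) ≠ y ∧ Commute (f : G) y) ∧ ((y : G) ≠ g ∧ Commute y (g : G))} =
          Com E (f : G) (g : G) := by
        ext y
        constructor
        · exact fun h => ⟨h.1, h.2.1.2, h.2.2.2.symm⟩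
        · rintro ⟨h4, h5, h6⟩
          refine ⟨h4, ⟨?_, h5⟩, ?_, h6.symm⟩
          · rintro rfl; exact hc h6.symm
          · rintro rfl; exact hc h5
      have h3 : adj f g = 0 := by unfold adj; rw [if_neg (fun h => hc h.2)]
      rw [h2, hm f f.2 g g.2 hc, h3]
      ring

end Count

/-! ### The inequality -/

section Level

variable {G : Type u} [Group G] [Finite G] {χ : G → ℂ} {E : Set G} {k l m r θ : ℕ}

theorem level (hχ : IsIrrCharacter G χ) (hE : E.Nonempty) (hsq : ∀ f ∈ E, f * f = 1) {z : G} (hz : z * z = 1)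
    (hzE : ∀ f ∈ E, Commute z f) {ε : ℝ} (hε : ε * ε = 1) (hk : ∀ f ∈ E, (Loc E f).ncard = k)
    (hl : ∀ f ∈ E, ∀ g ∈ Loc E f, (Loc (Loc E f) g).ncard = l)
    (hm : ∀ f ∈ E, ∀ g ∈ E, ¬ Commute f g → (Com E f g).ncard = m)
    (hθ : 0 < θ) (hr : 0 < r) (e1 : r ^ 2 + k = θ * r + m) (e2 : 2 * r + l = θ + m) {M x c : ℝ}
    (hM : χ 1 + ε * χ z = M) (hx : ∀ f ∈ E, χ f + ε * χ (z * f) = x)
    (hc : ∀ f ∈ E, ∀ g ∈ E, f ≠ g → Commute f g → χ (f * g) + ε * χ (z * (f * g)) = c) :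
    (r + k) * x ^ 2 ≤ (r * M + k * c) * M := by
  classical
  have := Fintype.ofFinite G
  have := Fintype.ofFinite E
  obtain ⟨f₀, hf₀⟩ := hE
  -- the constant
  obtain ⟨d, hd0, hd⟩ : ∃ d : ℝ, 0 < d ∧ χ 1 = d := by
    have h0 := Cfsg.Agent.Characters.Central.irr_one_ne_zero hχ
    obtain ⟨n, ρ, hρ, rfl⟩ := hχ
    rw [Representation.char_one, Module.finrank_fin_fun] at h0
    refine ⟨n, ?_, ?_⟩
    · have : n ≠ 0 := by rintro rfl; exact h0 (by norm_num)
      positivity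
    · rw [Representation.char_one, Module.finrank_fin_fun]
      norm_num
  set K : ℝ := 2 * ((Nat.card G : ℝ) / d) with hK
  have hK0 : 0 < K := by
    have : 0 < Nat.card G := Nat.card_pos
    positivity
  have hin : ∀ a b : G, z * a = a * z → z * b = b * z →
      ⟪vec χ z ε a, vec χ z ε b⟫_ℝ = K * (χ (b * a⁻¹) + ε * χ (z * (b * a⁻¹))).re := by
    intro a b ha hb
    have h0 : ⟪vec χ z ε a, vec χ z ε b⟫_ℝ = (⟪vec χ z ε a, vec χ z ε b⟫_ℂ).re := by
      rw [PiLp.inner_apply, PiLp.inner_apply, Complex.re_sum]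
      rfl
    rw [h0, inner_vec hχ hz hε ha hb, hd]
    have : (2 * ((Nat.card G : ℂ) / (d : ℂ))) = ((K : ℝ) : ℂ) := by rw [hK]; push_cast; ring
    rw [this]
    rw [Complex.re_ofReal_mul]
  have hz1 : z * 1 = 1 * z := by rw [mul_one, one_mul]
  have hinv : ∀ f ∈ E, f⁻¹ = f := fun f hf => by rw [inv_eq_iff_mul_eq_one]; exact hsq f hf
  have hee : ⟪vec χ z ε 1, vec χ z ε 1⟫_ℝ = K * M := by
    rw [hin 1 1 hz1 hz1, inv_one, mul_one, mul_one, hM, Complex.ofReal_re]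
  have hself : ∀ f ∈ E, ⟪vec χ z ε f, vec χ z ε f⟫_ℝ = K * M := by
    intro f hf
    rw [hin f f (hzE f hf) (hzE f hf), mul_inv_cancel, mul_one, hM, Complex.ofReal_re]
  have hfe : ∀ f : E, ⟪vec χ z ε (f : G), vec χ z ε 1⟫_ℝ = K * x := by
    intro f
    rw [hin f 1 (hzE f f.2) hz1, one_mul, hinv f f.2, hx f f.2, Complex.ofReal_re]
  have hfg : ∀ f g : E, (f : G) ≠ g → Commute (f : G) g → ⟪vec χ z ε (f : G), vec χ z ε (g : G)⟫_ℝ = K * c := by
    intro f g h1 h2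
    rw [hin f g (hzE f f.2) (hzE g g.2), hinv f f.2, hc g g.2 f f.2 h1.symm h2.symm, Complex.ofReal_re]
  have hτ : ∀ f : E, ∑ g : E, mat r f g * ⟪vec χ z ε (f : G), vec χ z ε (g : G)⟫_ℝ = K * (r * M + k * c) := by
    intro f
    have h1 : ∀ g : E, mat r f g * ⟪vec χ z ε (f : G), vec χ z ε (g : G)⟫_ℝ =
        (if f = g then r * (K * M) else 0) + adj f g * (K * c) := by
      intro g
      unfold mat
      by_cases h2 : f = g
      · subst h2
        have h3 : adj f f = 0 := by unfold adj; simp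
        rw [if_pos rfl, if_pos rfl, h3, hself f f.2]
        ring
      · rw [if_neg h2, if_neg h2, zero_add, zero_add]
        unfold adj
        by_cases h3 : Commute (f : G) g
        · rw [if_pos ⟨fun h => h2 (Subtype.ext h), h3⟩, hfg f g (fun h => h2 (Subtype.ext h)) h3]
        · rw [if_neg (fun h => h3 h.2), zero_mul, zero_mul]
    simp only [h1]
    rw [Finset.sum_add_distrib, Finset.sum_ite_eq, if_pos (Finset.mem_univ _), ← Finset.sum_mul, sum_adj,
      hk f f.2]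
    ring
  have hrow : ∀ f : E, ∑ g : E, mat r f g = (r + k : ℝ) := by
    intro f
    unfold mat
    rw [Finset.sum_add_distrib, Finset.sum_ite_eq, if_pos (Finset.mem_univ _), sum_adj, hk f f.2]
  have hsym : ∀ f g : E, mat r f g = mat r g f := by
    intro f g
    unfold mat
    rw [adj_symm f g]
    by_cases h : f = g
    · rw [if_pos h, if_pos h.symm]
    · rw [if_neg h, if_neg (fun h' => h h'.symm)]
  have hθ' : (0 : ℝ) < θ := by exact_mod_cast hθ
  have hρ' : (0 : ℝ) < r + k := by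
    have : (0 : ℝ) < r := by exact_mod_cast hr
    positivity
  have key := srg (M := mat (E := E) r) (v := fun f : E => vec χ z ε (f : G)) (e := vec χ z ε 1) hθ' hρ' ⟨f₀, hf₀⟩
    hsym (fun f g => mat_sq hk hl hm e1 e2 f g) hrow hτ hfe
  rw [hee] at key
  have h8 : K ^ 2 * ((r + k) * x ^ 2) ≤ K ^ 2 * ((r * M + k * c) * M) := by nlinarith
  exact le_of_mul_le_mul_left h8 (by positivity)

end Level

end Cfsg.Agent.H201.Fi
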