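import Mathlib

/-!
# An inequality for Gram matrices on strongly regular graphs

`srg` : `M` symmetric with `M² = θ M + μ J` and row sums `ρ`; vectors `v i` with `∑ j, M i j ⟪v i, v j⟫ = τ` and
`⟪v i, e⟫ = x`.  Then `ρ x² ≤ τ ⟪e, e⟫`.
-/

set_option autoImplicit false

open scoped InnerProductSpace

namespace Cfsg.Agent.H201.Fi

variable {H : Type*} [NormedAddCommGroup H] [InnerProductSpace ℝ H] {ι : Type*} [Fintype ι]

theorem srg {M : ι → ι → ℝ} {v : ι → H} {e : H} {θ μ ρ τ x : ℝ} (hθ : 0 < θ) (hρ : 0 < ρ) (i₀ : ι)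
    (hsym : ∀ i j, M i j = M j i) (hM : ∀ i j, ∑ f, M i f * M f j = θ * M i j + μ)
    (hrow : ∀ i, ∑ j, M i j = ρ) (hτ : ∀ i, ∑ j, M i j * ⟪v i, v j⟫_ℝ = τ) (hx : ∀ i, ⟪v i, e⟫_ℝ = x) :
    ρ * x ^ 2 ≤ τ * ⟪e, e⟫_ℝ := by
  set N : ℝ := (Fintype.card ι : ℝ) with hN
  have hN0 : 0 < N := by
    have : Nonempty ι := ⟨i₀⟩
    rw [hN]
    exact_mod_cast Fintype.card_pos
  set w : H := ∑ i, v i with hw
  set S : ι → H := fun f => ∑ j, M f j • v j with hS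
  -- the sum of the norms
  have h1 : ∑ f, ⟪S f, S f⟫_ℝ = θ * (N * τ) + μ * ⟪w, w⟫_ℝ := by
    have e1 : ∀ f, ⟪S f, S f⟫_ℝ = ∑ i, ∑ j, M f i * M f j * ⟪v i, v j⟫_ℝ := by
      intro f
      show ⟪∑ i, M f i • v i, ∑ j, M f j • v j⟫_ℝ = _
      rw [sum_inner]
      refine Finset.sum_congr rfl fun i _ => ?_
      rw [inner_sum]
      refine Finset.sum_congr rfl fun j _ => ?_
      rw [inner_smul_left, inner_smul_right, conj_trivial]
      ring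
    simp only [e1]
    rw [Finset.sum_comm]
    have e2 : ∀ i, ∑ f, ∑ j, M f i * M f j * ⟪v i, v j⟫_ℝ = θ * τ + μ * ⟪v i, w⟫_ℝ := by
      intro i
      rw [Finset.sum_comm]
      have e3 : ∀ j, ∑ f, M f i * M f j * ⟪v i, v j⟫_ℝ = θ * (M i j * ⟪v i, v j⟫_ℝ) + μ * ⟪v i, v j⟫_ℝ := by
        intro j
        rw [← Finset.sum_mul]
        have e4 : ∑ f, M f i * M f j = θ * M i j + μ := by
          rw [← hM i j]
          exact Finset.sum_congr rfl fun f _ => by rw [hsym f i]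
        rw [e4]; ring
      simp only [e3]
      rw [Finset.sum_add_distrib, ← Finset.mul_sum, ← Finset.mul_sum, hτ i, hw, inner_sum]
    simp only [e2]
    rw [Finset.sum_add_distrib, Finset.sum_const, ← Finset.mul_sum, hw, sum_inner, Finset.card_univ, nsmul_eq_mul]
    simp only [← hw]
    ring
  -- the sum of the `S f`
  have h2 : ∑ f, S f = ρ • w := by
    simp only [hS]
    rw [Finset.sum_comm, hw, Finset.smul_sum]
    refine Finset.sum_congr rfl fun j _ => ?_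
    rw [← Finset.sum_smul]
    congr 1
    rw [← hrow j]
    exact Finset.sum_congr rfl fun f _ => hsym f j
  -- Cauchy-Schwarz for the sum
  have h3 : ρ ^ 2 * ⟪w, w⟫_ℝ ≤ N * ∑ f, ⟪S f, S f⟫_ℝ := by
    have e1 : ρ ^ 2 * ⟪w, w⟫_ℝ = ⟪∑ f, S f, ∑ f, S f⟫_ℝ := by
      rw [h2, inner_smul_left, inner_smul_right, conj_trivial]; ring
    have e2 : 0 ≤ ∑ i, ∑ j, ⟪S i - S j, S i - S j⟫_ℝ :=
      Finset.sum_nonneg fun i _ => Finset.sum_nonneg fun j _ => real_inner_self_nonneg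
    have e3 : ∑ i, ∑ j, ⟪S i - S j, S i - S j⟫_ℝ = 2 * (N * ∑ f, ⟪S f, S f⟫_ℝ) - 2 * ⟪∑ f, S f, ∑ f, S f⟫_ℝ := by
      have e4 : ∀ i, ∑ j, ⟪S i - S j, S i - S j⟫_ℝ =
          N * ⟪S i, S i⟫_ℝ - 2 * ⟪S i, ∑ j, S j⟫_ℝ + ∑ j, ⟪S j, S j⟫_ℝ := by
        intro i
        simp only [real_inner_sub_sub_self]
        rw [Finset.sum_add_distrib, Finset.sum_sub_distrib, Finset.sum_const, Finset.card_univ, nsmul_eq_mul,
          ← Finset.mul_sum, ← inner_sum]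
      simp only [e4]
      rw [Finset.sum_add_distrib, Finset.sum_sub_distrib, Finset.sum_const, Finset.card_univ, nsmul_eq_mul,
        ← Finset.mul_sum, ← Finset.mul_sum, ← sum_inner]
      ring
    rw [e1]
    linarith
  -- the total
  have h4 : ρ ^ 2 = θ * ρ + μ * N := by
    have e1 : ∑ j, ∑ f, M i₀ f * M f j = ρ ^ 2 := by
      rw [Finset.sum_comm]
      simp only [← Finset.mul_sum, hrow]
      rw [← Finset.sum_mul, hrow]; ring
    rw [← e1]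
    simp only [hM]
    rw [Finset.sum_add_distrib, ← Finset.mul_sum, hrow, Finset.sum_const, Finset.card_univ, nsmul_eq_mul]
    ring
  have h5 : ρ * ⟪w, w⟫_ℝ ≤ N ^ 2 * τ := by
    rw [h1, h4] at h3
    have : θ * (ρ * ⟪w, w⟫_ℝ) ≤ θ * (N ^ 2 * τ) := by nlinarith
    exact le_of_mul_le_mul_left this hθ
  have h6 : (N * x) ^ 2 ≤ ⟪w, w⟫_ℝ * ⟪e, e⟫_ℝ := by
    have e1 : ⟪w, e⟫_ℝ = N * x := by
      rw [hw, sum_inner]
      simp only [hx]
      rw [Finset.sum_const, Finset.card_univ, nsmul_eq_mul]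
    have e2 := real_inner_mul_inner_self_le w e
    rw [e1] at e2
    nlinarith
  have h7 : 0 ≤ ⟪e, e⟫_ℝ := real_inner_self_nonneg
  have h8 : N ^ 2 * (ρ * x ^ 2) ≤ N ^ 2 * (τ * ⟪e, e⟫_ℝ) := by
    calc N ^ 2 * (ρ * x ^ 2) = ρ * (N * x) ^ 2 := by ring
      _ ≤ ρ * (⟪w, w⟫_ℝ * ⟪e, e⟫_ℝ) := mul_le_mul_of_nonneg_left h6 hρ.le
      _ = (ρ * ⟪w, w⟫_ℝ) * ⟪e, e⟫_ℝ := by ring
      _ ≤ (N ^ 2 * τ) * ⟪e, e⟫_ℝ := mul_le_mul_of_nonneg_right h5 h7
      _ = N ^ 2 * (τ * ⟪e, e⟫_ℝ) := by ring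
  exact le_of_mul_le_mul_left h8 (by positivity)

end Cfsg.Agent.H201.Fi
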