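import Cfsg.Agent.Characters.Core
import Cfsg.Agent.Characters.Linear
import Cfsg.Agent.S5549

/-!
# The restriction of a character to `2^12` with `M24`

`e : GolayPt → G` commuting elements of square 1, permuted by `M24` in `G`, with product 1 over the octads.  For a
character `χ` of `G` there are `a0 a1 b0 b1 c : ℕ` with

* `χ 1 = a0 + a1 + 759 (b0 + b1) + 2576 c`;
* `χ (e p) = a0 - a1 + 253 (b0 - b1)`;
* `χ (e p * e q) = a0 + a1 + 55 (b0 + b1) - 112 c`; and so on for three and four factors.
-/

set_option autoImplicit false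
set_option maxRecDepth 100000

open scoped ComplexConjugate

namespace Cfsg.Agent.H201.Fi

open Cfsg Cfsg.Agent.H852.GolayMod

universe u

/-- words as a multiplicative group -/
abbrev Wd : Type := Multiplicative (GolayPt → ZMod 2)

/-- the word of a point -/
def pt1 (p : GolayPt) : Wd := Multiplicative.ofAdd (ind {p})

/-! ### Generation -/

theorem pt_gen {H : Subgroup Wd} (h : ∀ p, pt1 p ∈ H) (w : Wd) : w ∈ H := by
  have h1 : w = ∏ p ∈ Finset.univ.filter (fun p => Multiplicative.toAdd w p ≠ 0), pt1 p := by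
    apply Multiplicative.toAdd.injective
    rw [toAdd_prod]
    funext q
    rw [Finset.sum_apply]
    have h2 : ∀ p, Multiplicative.toAdd (pt1 p) q = if q = p then 1 else 0 := by
      intro p
      show ind {p} q = _
      rw [ind_apply]
      simp
    simp only [h2]
    rw [Finset.sum_ite_eq]
    by_cases h3 : Multiplicative.toAdd w q = 0
    · rw [if_neg (by simp [h3]), h3]
    · rw [if_pos (by simp [h3])]
      exact ((z2 _).resolve_left h3)
  rw [h1]
  exact H.prod_mem fun p _ => h p

theorem hom_ext {G : Type*} [Group G] {f g : Wd →* G} (h : ∀ p, f (pt1 p) = g (pt1 p)) : f = g := by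
  ext w
  exact pt_gen (H := f.eqLocus g) h w

/-! ### The homomorphism -/

section Hom

variable {G : Type*} [Group G] {e : GolayPt → G}

/-- the homomorphism of an element of square 1 -/
noncomputable def h2 {x : G} (hx : x * x = 1) : Multiplicative (ZMod 2) →* G where
  toFun a := if Multiplicative.toAdd a = 0 then 1 else x
  map_one' := by simp
  map_mul' a b := by
    rw [toAdd_mul]
    rcases z2 (Multiplicative.toAdd a) with h | h <;> rcases z2 (Multiplicative.toAdd b) with h' | h' <;>
      rw [h, h']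
    · simp
    · simp
    · simp
    · rw [if_pos (by decide), if_neg (by decide), hx]

theorem exists_hom (sq : ∀ p, e p * e p = 1) (comm : ∀ p q, e p * e q = e q * e p) :
    ∃ φ : Wd →* G, ∀ p, φ (pt1 p) = e p := by
  have hc : Pairwise fun p q => ∀ x y, Commute (h2 (sq p) x) (h2 (sq q) y) := by
    intro p q _ x y
    show Commute (if _ then 1 else e p) (if _ then 1 else e q)
    split_ifs
    · exact Commute.one_left _
    · exact Commute.one_left _
    · exact Commute.one_right _
    · exact comm p q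
  let ψ : (GolayPt → Multiplicative (ZMod 2)) →* G := MonoidHom.noncommPiCoprod (fun p => h2 (sq p)) hc
  let τ : Wd →* (GolayPt → Multiplicative (ZMod 2)) :=
    { toFun := fun w p => Multiplicative.ofAdd (Multiplicative.toAdd w p)
      map_one' := rfl
      map_mul' := fun _ _ => rfl }
  refine ⟨ψ.comp τ, fun p => ?_⟩
  have h1 : τ (pt1 p) = Pi.mulSingle p (Multiplicative.ofAdd 1) := by
    funext q
    show Multiplicative.ofAdd (ind {p} q) = _
    rw [ind_apply]
    by_cases h : q = p
    · subst h; simp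
    · rw [Pi.mulSingle_eq_of_ne h]; simp [h]
  show ψ (τ (pt1 p)) = e p
  rw [h1, MonoidHom.noncommPiCoprod_mulSingle]
  show (if Multiplicative.toAdd (Multiplicative.ofAdd (1 : ZMod 2)) = 0 then (1 : G) else e p) = e p
  exact if_neg (by decide)

end Hom

/-! ### The action of `M24` -/

section Act

/-- the action of a permutation -/
def actM (σ : Equiv.Perm GolayPt) : Wd →* Wd where
  toFun w := Multiplicative.ofAdd (act σ (Multiplicative.toAdd w))
  map_one' := rfl
  map_mul' _ _ := rfl

theorem actM_pt (σ : Equiv.Perm GolayPt) (p : GolayPt) : actM σ (pt1 p) = pt1 (σ p) := by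
  apply Multiplicative.toAdd.injective
  show act σ (ind {p}) = ind {σ p}
  rw [act_ind, Finset.map_singleton]
  rfl

theorem actM_inv (σ : Equiv.Perm GolayPt) (w : Wd) : actM σ (actM σ⁻¹ w) = w := by
  apply Multiplicative.toAdd.injective
  funext p
  show Multiplicative.toAdd w (σ⁻¹.symm (σ.symm p)) = Multiplicative.toAdd w p
  have h : σ⁻¹.symm (σ.symm p) = p := σ.apply_symm_apply p
  rw [h]

/-- the action as a permutation -/
def actE (σ : Equiv.Perm GolayPt) : Wd ≃ Wd where
  toFun := actM σ
  invFun := actM σ⁻¹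
  left_inv w := by
    have := actM_inv σ⁻¹ w
    rwa [inv_inv] at this
  right_inv := actM_inv σ

end Act

/-! ### Linear characters -/

/-- the sign -/
noncomputable def sgn (x : ZMod 2) : ℂ := if x = 0 then 1 else -1

theorem sgn_add (x y : ZMod 2) : sgn (x + y) = sgn x * sgn y := by
  unfold sgn
  rcases z2 x with rfl | rfl <;> rcases z2 y with rfl | rfl
  · simp
  · simp
  · simp
  · rw [if_pos (by decide), if_neg (by decide)]; norm_num

theorem sgn_zero : sgn 0 = 1 := if_pos rfl

theorem sgn_mul_self (x : ZMod 2) : sgn x * sgn x = 1 := by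
  rw [← sgn_add, show x + x = 0 from by rcases z2 x with rfl | rfl <;> decide, sgn_zero]

theorem conj_sgn (x : ZMod 2) : conj (sgn x) = sgn x := by
  unfold sgn
  split_ifs <;> simp

/-- the scalar product -/
def dot (w v : GolayPt → ZMod 2) : ZMod 2 := ∑ p, w p * v p

theorem dot_add (w v v' : GolayPt → ZMod 2) : dot w (v + v') = dot w v + dot w v' := by
  unfold dot
  rw [← Finset.sum_add_distrib]
  exact Finset.sum_congr rfl fun p _ => by rw [Pi.add_apply, mul_add]

theorem add_dot (w w' v : GolayPt → ZMod 2) : dot (w + w') v = dot w v + dot w' v := by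
  unfold dot
  rw [← Finset.sum_add_distrib]
  exact Finset.sum_congr rfl fun p _ => by rw [Pi.add_apply, add_mul]

theorem dot_zero (w : GolayPt → ZMod 2) : dot w 0 = 0 := by
  unfold dot
  simp

theorem dot_act (σ : Equiv.Perm GolayPt) (w v : GolayPt → ZMod 2) : dot (act σ w) (act σ v) = dot w v := by
  unfold dot
  exact Fintype.sum_equiv σ.symm _ _ fun p => rfl

theorem dot_ind (w : GolayPt → ZMod 2) (s : Finset GolayPt) : dot w (ind s) = ∑ p ∈ s, w p := by
  unfold dot
  simp only [ind_apply, mul_ite, mul_one, mul_zero]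
  rw [Finset.sum_ite_mem, Finset.univ_inter]

/-- the linear character of a word -/
noncomputable def lam (w : GolayPt → ZMod 2) (a : Wd) : ℂ := sgn (dot w (Multiplicative.toAdd a))

theorem lam_mul (w : GolayPt → ZMod 2) (a b : Wd) : lam w (a * b) = lam w a * lam w b := by
  unfold lam
  rw [toAdd_mul, dot_add, sgn_add]

theorem lam_one (w : GolayPt → ZMod 2) : lam w 1 = 1 := by
  unfold lam
  rw [toAdd_one, dot_zero, sgn_zero]

theorem lam_mul_self (w : GolayPt → ZMod 2) (a : Wd) : lam w a * lam w a = 1 := sgn_mul_self _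

theorem conj_lam (w : GolayPt → ZMod 2) (a : Wd) : conj (lam w a) = lam w a := conj_sgn _

theorem lam_def (w : GolayPt → ZMod 2) (a : Wd) : lam w a = sgn (dot w (Multiplicative.toAdd a)) := rfl

attribute [irreducible] lam

/-- the value as a unit -/
noncomputable def lamV (w : GolayPt → ZMod 2) (a : Wd) : ℂˣ := ⟨lam w a, lam w a, lam_mul_self w a, lam_mul_self w a⟩

theorem lamV_coe (w : GolayPt → ZMod 2) (a : Wd) : ((lamV w a : ℂˣ) : ℂ) = lam w a := rfl

/-- the linear character as a homomorphism -/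
noncomputable def lamU (w : GolayPt → ZMod 2) : Wd →* ℂˣ :=
  MonoidHom.mk' (lamV w) fun a b => by
    apply Units.ext
    rw [Units.val_mul, lamV_coe, lamV_coe, lamV_coe, lam_mul]

theorem lamU_apply (w : GolayPt → ZMod 2) (a : Wd) : ((lamU w a : ℂˣ) : ℂ) = lam w a := rfl

theorem isChar_lam (w : GolayPt → ZMod 2) : IsCharacter Wd (lam w) := by
  have h := Cfsg.Agent.Characters.Linear.isCharacter_hom (lamU w)
  simp only [lamU_apply] at h
  exact h

/-- orthogonality -/
theorem sum_lam (c : GolayPt → ZMod 2) (hc : c ≠ 0) : ∑ w, sgn (dot w c) = 0 := by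
  obtain ⟨p, hp⟩ : ∃ p, c p ≠ 0 := by
    by_contra h
    exact hc (funext fun q => by_contra fun hq => h ⟨q, hq⟩)
  have hp1 : c p = 1 := (z2 _).resolve_left hp
  have h1 : ∑ w, sgn (dot w c) = ∑ w, sgn (dot (w + ind {p}) c) :=
    (Fintype.sum_equiv (Equiv.addRight (ind {p})) _ _ fun w => rfl).symm
  have h2 : ∀ w, sgn (dot (w + ind {p}) c) = - sgn (dot w c) := by
    intro w
    rw [add_dot, sgn_add]
    have h3 : dot (ind {p}) c = 1 := by
      unfold dot
      simp only [ind_apply, Finset.mem_singleton, ite_mul, one_mul, zero_mul]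
      rw [Finset.sum_ite_eq', if_pos (Finset.mem_univ _), hp1]
    rw [h3]
    unfold sgn
    rw [if_neg (show (1 : ZMod 2) ≠ 0 by decide)]
    ring
  simp only [h2, Finset.sum_neg_distrib] at h1
  exact CharZero.eq_neg_self_iff.1 h1

/-! ### Multiplicities -/

section Mult

variable {G : Type u} [Group G] {χ : G → ℂ} {φ : Wd →* G}

theorem card_Wd : (Nat.card Wd : ℂ) = ∑ _w : GolayPt → ZMod 2, (1 : ℂ) := by
  rw [Finset.sum_const, nsmul_eq_mul, mul_one, Finset.card_univ, Nat.card_eq_fintype_card, Fintype.card_multiplicative]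

theorem card_ne : (Nat.card Wd : ℂ) ≠ 0 := by
  have : 0 < Nat.card Wd := Nat.card_pos
  exact_mod_cast this.ne'

theorem exists_mult (hχ : IsCharacter G χ) (φ : Wd →* G) (w : GolayPt → ZMod 2) :
    ∃ m : ℕ, ∑ a : Wd, χ (φ a) * lam w a = (Nat.card Wd : ℂ) * m := by
  obtain ⟨m, hm⟩ := Cfsg.Agent.Characters.Core.classInner_isNat
    (Cfsg.Agent.Characters.Core.isCharacter_comp φ hχ) (isChar_lam w)
  refine ⟨m, ?_⟩
  rw [← hm, Cfsg.Agent.Characters.Core.classInner_def, ← mul_assoc, mul_inv_cancel₀ card_ne, one_mul]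
  exact Finset.sum_congr rfl fun a _ => by rw [conj_lam]; rfl

theorem Wd_sq (a : Wd) : a * a = 1 := by
  apply Multiplicative.toAdd.injective
  exact add_self _

/-- Fourier inversion -/
theorem inversion {m : (GolayPt → ZMod 2) → ℕ}
    (hm : ∀ w, ∑ a : Wd, χ (φ a) * lam w a = (Nat.card Wd : ℂ) * m w) (a : Wd) :
    χ (φ a) = ∑ w, (m w : ℂ) * lam w a := by
  apply mul_left_cancel₀ card_ne
  rw [Finset.mul_sum]
  have h1 : ∀ w, (Nat.card Wd : ℂ) * ((m w : ℂ) * lam w a) = ∑ b : Wd, χ (φ b) * lam w (b * a) := by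
    intro w
    rw [← mul_assoc, ← hm w, Finset.sum_mul]
    exact Finset.sum_congr rfl fun b _ => by rw [lam_mul, mul_assoc]
  simp only [h1]
  rw [Finset.sum_comm]
  simp only [← Finset.mul_sum]
  rw [Finset.sum_eq_single a]
  · rw [Wd_sq]
    simp only [lam_one]
    rw [← card_Wd, mul_comm]
  · intro b _ hb
    have h2 : ∑ w, lam w (b * a) = 0 := by
      simp only [lam_def]
      apply sum_lam
      intro h3
      apply hb
      have h4 : b * a = 1 := h3
      have h5 : b = a⁻¹ := eq_inv_of_mul_eq_one_left h4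
      rw [h5, inv_eq_iff_mul_eq_one]
      exact Wd_sq a
    rw [h2, mul_zero]
  · intro h; exact absurd (Finset.mem_univ a) h

theorem lam_act (σ : Equiv.Perm GolayPt) (w : GolayPt → ZMod 2) (a : Wd) : lam (act σ w) (actM σ a) = lam w a := by
  rw [lam_def, lam_def]
  have h : Multiplicative.toAdd (actM σ a) = act σ (Multiplicative.toAdd a) := rfl
  rw [h, dot_act]

/-- invariance -/
theorem mult_act {m : (GolayPt → ZMod 2) → ℕ}
    (hm : ∀ w, ∑ a : Wd, χ (φ a) * lam w a = (Nat.card Wd : ℂ) * m w) {σ : Equiv.Perm GolayPt}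
    (hσ : ∀ a, χ (φ (actM σ a)) = χ (φ a)) (w : GolayPt → ZMod 2) : m (act σ w) = m w := by
  have h1 : (Nat.card Wd : ℂ) * m (act σ w) = (Nat.card Wd : ℂ) * m w := by
    rw [← hm, ← hm]
    refine (Fintype.sum_equiv (actE σ) _ _ fun a => ?_).symm
    show χ (φ a) * lam w a = χ (φ (actM σ a)) * lam (act σ w) (actM σ a)
    rw [hσ, lam_act]
  exact_mod_cast mul_left_cancel₀ card_ne h1

/-- the multiplicity is zero outside the code -/
theorem mult_code {m : (GolayPt → ZMod 2) → ℕ}
    (hm : ∀ w, ∑ a : Wd, χ (φ a) * lam w a = (Nat.card Wd : ℂ) * m w)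
    (hc : ∀ c ∈ golayCode, φ (Multiplicative.ofAdd c) = 1) {w : GolayPt → ZMod 2} (hw : w ∉ golayCode) : m w = 0 := by
  obtain ⟨c, hcc, hc1⟩ : ∃ c ∈ golayCode, dot w c = 1 := by
    by_contra h
    apply hw
    rw [← ind_support₂ w]
    apply Cfsg.Agent.S5549.mem_of_orth
    apply LinearMap.ext
    intro c
    rw [Cfsg.Agent.S5549.fs_eq_dot, LinearMap.zero_apply, ind_support₂]
    by_contra h1
    exact h ⟨c, c.2, (z2 _).resolve_left h1⟩
  have h1 : ∑ a : Wd, χ (φ a) * lam w a = - ∑ a : Wd, χ (φ a) * lam w a := by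
    rw [← Finset.sum_neg_distrib]
    refine (Fintype.sum_equiv (Equiv.mulRight (Multiplicative.ofAdd c)) _ _ fun a => ?_).symm
    show -(χ (φ a) * lam w a) = χ (φ (a * Multiplicative.ofAdd c)) * lam w (a * Multiplicative.ofAdd c)
    rw [map_mul, hc c hcc, mul_one, lam_mul]
    have h2 : lam w (Multiplicative.ofAdd c) = -1 := by
      rw [lam_def]
      show sgn (dot w c) = -1
      rw [hc1]
      exact if_neg (by decide)
    rw [h2]; ring
  have h3 : ∑ a : Wd, χ (φ a) * lam w a = 0 := CharZero.eq_neg_self_iff.1 h1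
  rw [hm] at h3
  exact_mod_cast (mul_eq_zero.1 h3).resolve_left card_ne

end Mult

end Cfsg.Agent.H201.Fi
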